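import Cfsg.Agent.Lib.SympX.Clean

/-!
# Overgroups without transvections at their points: no zero on the common orthogonal, and the form

* `pair_facts` : for `f(a,b) = 1`: `qf a` quadratic, equal to `qf b` on the common orthogonal,
  and `b` the only point `b + t a`
* `exists_form` : `L` preserves a quadratic form with polar form the symplectic form
-/

set_option autoImplicit false
set_option linter.unusedSectionVars false

namespace Cfsg.Agent.SympX

open Cfsg Cfsg.Agent.Linear Module
open QuadraticMap (polar)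

variable {F : Type*} [Field F] [CharP F 2] [Fintype F] {m : ℕ} {L : Subgroup (Cfsg.spGL m F)}

local notation "V" => Fin m ⊕ Fin m → F
local notation "f" => Cfsg.sympForm m F

variable {a b : Fin m ⊕ Fin m → F}

/-- A vector of the common orthogonal not orthogonal to two given ones. -/
theorem exists_perp_two (hab : f a b = 1) {y y' : V} (hy0 : y ≠ 0) (hy0' : y' ≠ 0)
    (hay : f a y = 0) (hby : f b y = 0) (hay' : f a y' = 0) (hby' : f b y' = 0) :
    ∃ z : V, f a z = 0 ∧ f b z = 0 ∧ f z y ≠ 0 ∧ f z y' ≠ 0 := by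
  obtain ⟨v, h1, h2⟩ := exists_val_two hy0 hy0'
  have hba : f b a = 1 := by rw [form_comm, hab]
  refine ⟨v + f b v • a + f a v • b, ?_, ?_, ?_, ?_⟩
  · simp [hab, CharTwo.add_self_eq_zero]
  · simp [hba, CharTwo.add_self_eq_zero]
  · simpa [hay, hby, form_comm v y] using h1
  · simpa [hay', hby', form_comm v y'] using h2

section NoZero

variable (hC : Clean L) (hAdj : AdjOK L) (ha : IsPt L a) (hb : IsPt L b)
  (hab : Cfsg.sympForm m F a b = 1)
  (hno : ∀ u, u ≠ 0 → Cfsg.sympForm m F a u = 0 → Cfsg.sympForm m F b u = 0 → qf L a u ≠ 0)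
  (hnob : ∀ u, u ≠ 0 → Cfsg.sympForm m F a u = 0 → Cfsg.sympForm m F b u = 0 → qf L b u ≠ 0)
include hC hAdj ha hb hab hno hnob

theorem no_shift {t : F} (ht : IsPt L (b + t • a)) : t = 0 := by
  by_contra h0
  have hba : f b a = 1 := by rw [form_comm, hab]
  obtain ⟨u, hu0, hbu, hau, hqu⟩ := exists_value hC.two (a := b) (b := a)
    (by rw [hba]; exact one_ne_zero) (qf L b) (hC.qf_zero hb)
    (fun u w hu hw => hC.qf_add hb hu hw) (inv_ne_zero h0)
  have h1 := (ht.act (qf_mem hb hbu)).smul (inv_ne_zero h0)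
  have e : t⁻¹ • (uni b u (qf L b u) • (b + t • a)) = u + a := by
    have e1 : f (b + t • a) b = t := by
      rw [sympForm_add_left, sympForm_smul_left, sympForm_self, hab, zero_add, mul_one]
    have e2 : f (b + t • a) u = 0 := by
      rw [sympForm_add_left, sympForm_smul_left, hbu, hau, mul_zero, add_zero]
    rw [uni_smul hbu, hqu, e1, e2]
    ext i
    simp only [Pi.add_apply, Pi.smul_apply, smul_eq_mul]
    field_simp
    linear_combination b i * (CharTwo.two_eq_zero (R := F))
  rw [e] at h1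
  have h2 := hAdj a _ ha h1 (by simp [hau]) 1
  rw [one_smul, show u + a = u + (1 : F) • a by rw [one_smul], hC.qf_add_smul ha hau] at h2
  exact hno u hu0 hau hbu h2

theorem inv_value {w : V} (hw0 : w ≠ 0) (haw : f a w = 0) (hbw : f b w = 0) :
    qf L a ((qf L b w)⁻¹ • w) = (qf L b w)⁻¹ := by
  set s := qf L b w with hs
  have hs0 : s ≠ 0 := hnob w hw0 haw hbw
  set v := s⁻¹ • w with hv
  have hav : f a v = 0 := by simp [hv, haw]
  have hbv : f b v = 0 := by simp [hv, hbw]
  have hba : f b a = 1 := by rw [form_comm, hab]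
  have h1 := ((ha.act (qf_mem hb hbw)).smul (inv_ne_zero hs0)).act (qf_mem ha hav)
  have e : uni a v (qf L a v) • (s⁻¹ • (uni b w (qf L b w) • a)) =
      b + (s⁻¹ + qf L a v) • a := by
    have e0 : s⁻¹ • (uni b w (qf L b w) • a) = s⁻¹ • a + v + b := by
      rw [uni_smul hbw, ← hs, haw, hab, one_smul, zero_smul, add_zero, mul_one, smul_add, smul_add,
        smul_smul s⁻¹ s, inv_mul_cancel₀ hs0, one_smul]
    rw [e0, uni_smul hav]
    simp only [sympForm_add_left, sympForm_smul_left, sympForm_self, hba, hbv, hav,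
      form_comm v a, mul_zero, add_zero, zero_add, one_smul, zero_smul, mul_one]
    ext i
    simp only [Pi.add_apply, Pi.smul_apply, smul_eq_mul]
    linear_combination v i * (CharTwo.two_eq_zero (R := F))
  rw [e] at h1
  exact (CharTwo.add_eq_zero.1 (no_shift hC hAdj ha hb hab hno hnob h1)).symm

theorem reflect_value {z w : V} (hw0 : w ≠ 0) (haw : f a w = 0) (hbw : f b w = 0)
    (haz : f a z = 0) (hbz : f b z = 0) :
    qf L b (qf L b w • z + f z w • w) = qf L b w ^ 2 * qf L a z := by
  set s := qf L b w with hs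
  have hs0 : s ≠ 0 := hnob w hw0 haw hbw
  set v := s⁻¹ • w with hv
  set j := f z w with hj
  have hav : f a v = 0 := by simp [hv, haw]
  have hbv : f b v = 0 := by simp [hv, hbw]
  have hba : f b a = 1 := by rw [form_comm, hab]
  have hwv : f w v = 0 := by simp [hv]
  have hzv : f z v = s⁻¹ * j := by simp [hv, hj]
  have hza : f z a = 0 := by rw [form_comm]; exact haz
  have hzb : f z b = 0 := by rw [form_comm]; exact hbz
  have hwa : f w a = 0 := by rw [form_comm]; exact haw
  have hwb : f w b = 0 := by rw [form_comm]; exact hbw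
  have hva : f v a = 0 := by rw [form_comm]; exact hav
  have hvb : f v b = 0 := by rw [form_comm]; exact hbv
  have hvw : f v w = 0 := by rw [form_comm]; exact hwv
  have hqv : qf L a v = s⁻¹ := inv_value hC hAdj ha hb hab hno hnob hw0 haw hbw
  have g1 := qf_mem hb hbw
  have g2 := qf_mem ha hav
  set N := uni b w (qf L b w) * uni a v (qf L a v) * uni b w (qf L b w) with hN
  have hNL : N ∈ L := L.mul_mem (L.mul_mem g1 g2) g1
  have hNa : N • a = s • b := by
    have e1 : uni b w (qf L b w) • a = a + w + s • b := by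
      rw [uni_smul hbw, hab, haw, ← hs, one_smul, zero_smul, add_zero, mul_one]
    have e2 : uni a v (qf L a v) • (a + w + s • b) = s • b := by
      rw [uni_smul hav, hqv]
      simp only [sympForm_add_left, sympForm_smul_left, sympForm_self, hba, hbv, hav, hwa, hwv,
        mul_zero, add_zero, zero_add, mul_one, zero_smul, inv_mul_cancel₀ hs0, one_smul]
      rw [hv, smul_smul, mul_inv_cancel₀ hs0, one_smul]
      ext i
      simp only [Pi.add_apply, Pi.smul_apply, smul_eq_mul]
      linear_combination (a i + w i) * (CharTwo.two_eq_zero (R := F))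
    rw [hN, mul_smul, mul_smul, e1, e2]
    exact uni_fix hbw _ (by simp) (by simp [hbw])
  have hNz : N • z = z + j • v := by
    have e1 : uni b w (qf L b w) • z = z + j • b := by
      rw [uni_smul hbw, hzb, zero_smul, add_zero, mul_zero, zero_smul, add_zero]
    have e2 : uni a v (qf L a v) • (z + j • b) = z + j • b + j • v := by
      rw [uni_smul hav, hqv]
      simp only [sympForm_add_left, sympForm_smul_left, hza, hzv, hba, hbv, mul_zero, add_zero,
        zero_add, mul_one]
      ext i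
      simp only [Pi.add_apply, Pi.smul_apply, smul_eq_mul]
      linear_combination (s⁻¹ * j * a i) * (CharTwo.two_eq_zero (R := F))
    rw [hN, mul_smul, mul_smul, e1, e2, uni_smul hbw]
    simp only [sympForm_add_left, sympForm_smul_left, sympForm_self, hzb, hvb, hbw, hvw, ← hj,
      mul_zero, add_zero, zero_smul]
    ext i
    simp only [Pi.add_apply, Pi.smul_apply, smul_eq_mul]
    linear_combination (j * b i) * (CharTwo.two_eq_zero (R := F))
  have h := hC.qf_act ha haz hNL
  rw [hNa, hNz, hC.qf_scale hb (by simp [hbz, hbv]) hs0, smul_add, smul_smul, hv, smul_smul,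
    show s * j * s⁻¹ = j by field_simp, inv_mul_eq_iff_eq_mul₀ (pow_ne_zero _ hs0)] at h
  exact h

/-- Scaling on the common orthogonal. -/
theorem ratio {z y : V} (haz : f a z = 0) (hbz : f b z = 0) (hay : f a y = 0) (hby : f b y = 0)
    (hzy : f z y ≠ 0) (k : F) :
    qf L b (k • y) * qf L a z = qf L b y * qf L a (k • z) := by
  classical
  have hz0 : z ≠ 0 := fun h => hzy (by simp [h])
  have R := fun (z w : V) (h0 : w ≠ 0) (h1 : f a w = 0) (h2 : f b w = 0) =>
    reflect_value hC hAdj ha hb hab hno hnob (z := z) h0 h1 h2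
  let D : Set V := {w | f a w = 0 ∧ f b w = 0 ∧ f z w ≠ 0}
  have hD0 : ∀ w ∈ D, w ≠ 0 := fun w hw h => hw.2.2 (by simp [h])
  let φ : D → D := fun w => ⟨qf L b w.1 • z + f z w.1 • w.1,
    by simp [haz, w.2.1], by simp [hbz, w.2.2.1],
    by simp only [sympForm_add_right, sympForm_smul_right, sympForm_self, mul_zero, zero_add]
       exact mul_ne_zero w.2.2.2 w.2.2.2⟩
  have hφ : Function.Injective φ := by
    rintro ⟨w, hw⟩ ⟨w', hw'⟩ e
    have e' : qf L b w • z + f z w • w = qf L b w' • z + f z w' • w' := congrArg Subtype.val e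
    have h1 := R z w (hD0 w hw) hw.1 hw.2.1 haz hbz
    have h2 := R z w' (hD0 w' hw') hw'.1 hw'.2.1 haz hbz
    rw [e', h2] at h1
    have hs : qf L b w' = qf L b w := by
      have h3 := mul_right_cancel₀ (hno z hz0 haz hbz) h1
      exact CharTwo.add_eq_zero.1 (pow_eq_zero_iff two_ne_zero |>.1
        (show (qf L b w' + qf L b w) ^ 2 = 0 by rw [CharTwo.add_sq, h3, CharTwo.add_self_eq_zero]))
    rw [hs, add_right_inj] at e'
    have hj : f z w = f z w' := by
      have h3 := congrArg (f z) e'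
      rw [sympForm_smul_right, sympForm_smul_right] at h3
      exact CharTwo.add_eq_zero.1 (pow_eq_zero_iff two_ne_zero |>.1
        (show (f z w + f z w') ^ 2 = 0 by
          rw [CharTwo.add_sq, pow_two, pow_two, h3, CharTwo.add_self_eq_zero]))
    rw [← hj] at e'
    exact Subtype.ext (smul_right_injective _ hw.2.2 e')
  obtain ⟨⟨w, hw⟩, hwy⟩ := (Finite.injective_iff_surjective.1 hφ) ⟨y, hay, hby, hzy⟩
  have hy : qf L b w • z + f z w • w = y := congrArg Subtype.val hwy
  have h1 := R z w (hD0 w hw) hw.1 hw.2.1 haz hbz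
  have h2 := R (k • z) w (hD0 w hw) hw.1 hw.2.1 (by simp [haz]) (by simp [hbz])
  rw [hy] at h1
  rw [sympForm_smul_left, mul_smul, smul_comm (qf L b w) k, ← smul_add, hy] at h2
  rw [h1, h2]
  ring

theorem quad_b {y : V} (hay : f a y = 0) (hby : f b y = 0) (k : F) :
    qf L b (k • y) = k ^ 2 * qf L b y := by
  have hab0 : f a b ≠ 0 := by rw [hab]; exact one_ne_zero
  obtain ⟨y1, h10, ha1, hb1⟩ := exists_orth_two hC.two a b
  obtain ⟨y2, ha2, hb2, h21, -⟩ := exists_perp_two hab h10 h10 ha1 hb1 ha1 hb1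
  have h20 : y2 ≠ 0 := fun h => h21 (by simp [h])
  set r := qf L b (k • y1) / qf L b y1 with hr
  have hall : ∀ u, f a u = 0 → f b u = 0 → qf L b (k • u) = r * qf L b u := by
    intro u hau hbu
    rcases eq_or_ne u 0 with rfl | hu0
    · rw [smul_zero, hC.qf_zero hb, mul_zero]
    obtain ⟨z, haz, hbz, hzu, hz1⟩ := exists_perp_two hab hu0 h10 hau hbu ha1 hb1
    have e1 := ratio hC hAdj ha hb hab hno hnob haz hbz hau hbu hzu k
    have e2 := ratio hC hAdj ha hb hab hno hnob haz hbz ha1 hb1 hz1 k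
    have hq1 := hnob y1 h10 ha1 hb1
    have hqz := hno z (fun h => hzu (by simp [h])) haz hbz
    rw [hr, div_mul_eq_mul_div, eq_div_iff hq1]
    exact mul_right_cancel₀ hqz (by linear_combination qf L b y1 * e1 - qf L b u * e2)
  have h := hall (y1 + y2) (by simp [ha1, ha2]) (by simp [hb1, hb2])
  rw [smul_add, hC.qf_add hb (by simp [hb1]) (by simp [hb2]), hall _ ha1 hb1, hall _ ha2 hb2,
    hC.qf_add hb hb1 hb2, sympForm_smul_left, sympForm_smul_right] at h
  have hk : r = k ^ 2 := by
    have h12 : f y1 y2 ≠ 0 := by rw [form_comm]; exact h21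
    exact mul_right_cancel₀ h12 (by linear_combination -h)
  rw [← hk, hall y hay hby]

theorem same_value {y : V} (hay : f a y = 0) (hby : f b y = 0) : qf L b y = qf L a y := by
  rcases eq_or_ne y 0 with rfl | hy0
  · rw [hC.qf_zero ha, hC.qf_zero hb]
  have h := reflect_value hC hAdj ha hb hab hno hnob hy0 hay hby hay hby
  rw [sympForm_self, zero_smul, add_zero, quad_b hC hAdj ha hb hab hno hnob hay hby] at h
  exact mul_left_cancel₀ (pow_ne_zero _ (hnob y hy0 hay hby)) h

end NoZero

variable (hC : Clean L) (hAdj : AdjOK L)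
include hC hAdj

theorem quad_of_perp (ha : IsPt L a) (hab : f a b = 1)
    (hW : ∀ w, f a w = 0 → f b w = 0 → ∀ k : F, qf L a (k • w) = k ^ 2 * qf L a w)
    {v : V} (hv : f a v = 0) (k : F) : qf L a (k • v) = k ^ 2 * qf L a v := by
  set w := v + f b v • a with hw
  have haw : f a w = 0 := by simp [hw, hv]
  have hbw : f b w = 0 := by
    simp [hw, form_comm b a, hab, CharTwo.add_self_eq_zero]
  have h1 := hW w haw hbw k
  rwa [hw, smul_add, smul_smul, hC.qf_add_smul ha (by simp [hv]), hC.qf_add_smul ha hv] at h1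

/-- The pair lemma. -/
theorem pair_facts (ha : IsPt L a) (hb : IsPt L b) (hab : f a b = 1) :
    (∀ v, f a v = 0 → ∀ k : F, qf L a (k • v) = k ^ 2 * qf L a v) ∧
      (∀ v, f a v = 0 → f b v = 0 → qf L b v = qf L a v) ∧
      ∀ t : F, IsPt L (b + t • a) → t = 0 := by
  have hba : f b a = 1 := by rw [form_comm, hab]
  have toZero : ∀ x y : V, IsPt L x → IsPt L y → f x y = 1 → Nb L x →
      ∃ u, u ≠ 0 ∧ f x u = 0 ∧ f y u = 0 ∧ qf L x u = 0 := by
    rintro x y hx hy hxy ⟨c, d, hc, hd, hxc, hxd, hcd⟩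
    obtain ⟨-, h1, h2, h3, h4⟩ := zero_of_nb hC hAdj hx hxy hc hxc (not_line_of_form hxd hcd)
    exact ⟨_, h4, h1, h2, h3⟩
  by_cases hz : ∃ u, u ≠ 0 ∧ f a u = 0 ∧ f b u = 0 ∧ qf L a u = 0
  · obtain ⟨u, hu0, hau, hbu, hu⟩ := hz
    have hB := nb_of_zero hC hAdj ha hb hab hu0 hau hbu hu
    obtain ⟨u', hu0', hbu', hau', hu'⟩ := toZero b a hb ha hba hB
    exact pair_facts_iso hC hAdj ha hb hab
      (nb_of_zero hC hAdj hb ha hba hu0' hbu' hau' hu') hB
  · have hno : ∀ u, u ≠ 0 → f a u = 0 → f b u = 0 → qf L a u ≠ 0 :=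
      fun u h0 h1 h2 h3 => hz ⟨u, h0, h1, h2, h3⟩
    have hnob : ∀ u, u ≠ 0 → f a u = 0 → f b u = 0 → qf L b u ≠ 0 := by
      intro u h0 h1 h2 h3
      obtain ⟨u', h0', h1', h2', h3'⟩ :=
        toZero a b ha hb hab (nb_of_zero hC hAdj hb ha hba h0 h2 h1 h3)
      exact hno u' h0' h1' h2' h3'
    refine ⟨fun v hv k => quad_of_perp hC hAdj ha hab (fun w h1 h2 k => ?_) hv k,
      fun v h1 h2 => same_value hC hAdj ha hb hab hno hnob h1 h2,
      fun t ht => no_shift hC hAdj ha hb hab hno hnob ht⟩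
    rw [← same_value hC hAdj ha hb hab hno hnob h1 h2,
      ← same_value hC hAdj ha hb hab hno hnob (by simp [h1]) (by simp [h2])]
    exact quad_b hC hAdj ha hb hab hno hnob h1 h2 k

/-- The form is adapted to the point. -/
def GoodAt (L : Subgroup (Cfsg.spGL m F)) (Q : V → F) (c : V) : Prop :=
  Q c = 0 ∧ ∀ v, f c v = 0 → qf L c v = Q v

omit hC hAdj in
theorem GoodAt.preserves {Q : QuadraticForm F V} (hQ : ∀ x y, polar ⇑Q x y = f x y) {c v : V}
    (h : GoodAt L ⇑Q c) (hv : f c v = 0) (x : V) : Q (uni c v (qf L c v) • x) = Q x := by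
  have add : ∀ x y : V, Q (x + y) = Q x + Q y + f x y := fun x y => by
    rw [← hQ, QuadraticMap.polar]; ring
  have hvc : f v c = 0 := by rw [form_comm]; exact hv
  rw [uni_smul hv, add, add, add, QuadraticMap.map_smul, QuadraticMap.map_smul,
    QuadraticMap.map_smul, h.1, ← h.2 v hv]
  simp only [sympForm_add_left, sympForm_smul_left, sympForm_smul_right, sympForm_self, hvc,
    smul_eq_mul, mul_zero, add_zero]
  linear_combination (f x c * f x v + f x c ^ 2 * qf L c v) * (CharTwo.two_eq_zero (R := F))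

theorem GoodAt.smul {Q : QuadraticForm F V} {c : V} (hc : IsPt L c) (h : GoodAt L ⇑Q c) {k : F}
    (hk : k ≠ 0) : GoodAt L ⇑Q (k • c) := by
  refine ⟨by rw [QuadraticMap.map_smul, h.1, smul_zero], fun v hv => ?_⟩
  rw [sympForm_smul_left, mul_eq_zero, or_iff_right hk] at hv
  rw [hC.qf_scale hc hv hk, h.2 _ (by simp [hv]), QuadraticMap.map_smul, smul_eq_mul, ← mul_assoc,
    ← pow_two, inv_mul_cancel₀ (pow_ne_zero _ hk), one_mul]

theorem GoodAt.act {Q : QuadraticForm F V} {c : V} (hc : IsPt L c) (h : GoodAt L ⇑Q c)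
    {g : Cfsg.spGL m F} (hg : g ∈ L) (hQg : ∀ x, Q (g • x) = Q x) : GoodAt L ⇑Q (g • c) := by
  refine ⟨by rw [hQg, h.1], fun v hv => ?_⟩
  rw [← smul_inv_smul g v, sympForm_smul_smul] at hv
  rw [← smul_inv_smul g v, hC.qf_act hc hv hg, hQg, h.2 _ hv]

theorem good_unique {Q Q' : QuadraticForm F V} (hQ : ∀ x y, polar ⇑Q x y = f x y)
    (hQ' : ∀ x y, polar ⇑Q' x y = f x y) (hab : f a b = 1) (ha : GoodAt L ⇑Q a)
    (hb : Q b = 0) (ha' : GoodAt L ⇑Q' a) (hb' : Q' b = 0) (x : V) : Q x = Q' x := by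
  have key : ∀ P : QuadraticForm F V, (∀ x y, polar ⇑P x y = f x y) → GoodAt L ⇑P a → P b = 0 →
      P x = qf L a (x + f a x • b) + f a x * f (x + f a x • b) b := by
    intro P hP hPa hPb
    set u := x + f a x • b with hu
    have hau : f a u = 0 := by simp [hu, hab, CharTwo.add_self_eq_zero]
    have hx : x = u + f a x • b := by rw [hu, add_assoc, add_self_vec, add_zero]
    conv_lhs => rw [hx]
    have add : ∀ y z : V, P (y + z) = P y + P z + f y z := fun y z => by
      rw [← hP y z, QuadraticMap.polar]; ring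
    rw [add, QuadraticMap.map_smul, hPb, smul_zero, add_zero,
      sympForm_smul_right, ← hPa.2 u hau]
  rw [key Q hQ ha hb, key Q' hQ' ha' hb']

/-- A quadratic form adapted to the points `a` and `b`. -/
theorem exists_good_pair (ha : IsPt L a) (hb : IsPt L b) (hab : f a b = 1) :
    ∃ Q : QuadraticForm F V, (∀ x y, polar ⇑Q x y = f x y) ∧ GoodAt L ⇑Q a ∧ GoodAt L ⇑Q b := by
  obtain ⟨hq, hsame, -⟩ := pair_facts hC hAdj ha hb hab
  have hba : f b a = 1 := by rw [form_comm, hab]
  let Qf : V → F := fun x => qf L a (x + f a x • b) + f a x * f b x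
  have hin : ∀ x, f a (x + f a x • b) = 0 := fun x => by simp [hab, CharTwo.add_self_eq_zero]
  have hpolar : ∀ x y, polar Qf x y = f x y := by
    intro x y
    have e : x + y + f a (x + y) • b = (x + f a x • b) + (y + f a y • b) := by
      rw [sympForm_add_right, add_smul]; abel
    rw [QuadraticMap.polar]
    simp only [Qf]
    rw [e, hC.qf_add ha (hin x) (hin y)]
    simp only [sympForm_add_left, sympForm_add_right,
      sympForm_smul_left, sympForm_smul_right, sympForm_self, form_comm x b]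
    linear_combination (f a x * f b y + f b x * f a y) * (CharTwo.two_eq_zero (R := F))
  refine ⟨QuadraticMap.ofPolar Qf (fun k x => ?_) (fun x x' y => ?_) (fun k x y => ?_), hpolar,
    ⟨?_, fun v hv => ?_⟩, ⟨?_, fun v hv => ?_⟩⟩
  · simp only [Qf, sympForm_smul_right, mul_smul, ← smul_add, hq _ (hin x), smul_eq_mul]
    ring
  · rw [hpolar, hpolar, hpolar, sympForm_add_left]
  · rw [hpolar, hpolar, sympForm_smul_left, smul_eq_mul]
  · show Qf a = 0
    simp only [Qf, sympForm_self, zero_smul, add_zero, zero_mul]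
    have h := hC.qf_self ha 1
    rwa [one_smul] at h
  · show _ = Qf v
    simp [Qf, hv]
  · show Qf b = 0
    simp only [Qf, hab, one_smul, add_self_vec, sympForm_self, mul_zero, add_zero]
    exact hC.qf_zero ha
  · show _ = Qf v
    have h2 : f b (v + f a v • b) = 0 := by simp [hv]
    simp only [Qf, hv, mul_zero, add_zero]
    rw [← hsame _ (hin v) h2, hC.qf_add_smul hb hv]

/-- `L` preserves a quadratic form. -/
theorem exists_form : ∃ Q : QuadraticForm F V, (∀ x y, polar ⇑Q x y = f x y) ∧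
    (∀ g ∈ L, ∀ x, Q (g • x) = Q x) ∧ ∃ a b, IsPt L a ∧ IsPt L b ∧ f a b = 1 ∧
      GoodAt L ⇑Q a ∧ GoodAt L ⇑Q b := by
  obtain ⟨a, ha⟩ := hC.pts
  obtain ⟨b₀, hb₀, hab₀⟩ := exists_opp hC.irr {c | IsPt L c} (fun c hc => hc.1) ⟨a, ha⟩
    (fun g hg c hc => hc.act hg) ha.1
  obtain ⟨b, hb, hab⟩ : ∃ b, IsPt L b ∧ f a b = 1 :=
    ⟨(f a b₀)⁻¹ • b₀, hb₀.smul (inv_ne_zero hab₀),
      by rw [sympForm_smul_right, inv_mul_cancel₀ hab₀]⟩
  obtain ⟨Q, hQ, hQa, hQb⟩ := exists_good_pair hC hAdj ha hb hab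
  have step : ∀ x y, IsPt L x → IsPt L y → f x y = 1 → GoodAt L ⇑Q x → GoodAt L ⇑Q y →
      ∀ z, IsPt L z → f x z ≠ 0 → GoodAt L ⇑Q z := by
    intro x y hx hy hxy hQx hQy z hz hxz
    set z' := (f x z)⁻¹ • z with hz'
    have hzpt : IsPt L z' := hz.smul (inv_ne_zero hxz)
    have hxz' : f x z' = 1 := by rw [hz', sympForm_smul_right, inv_mul_cancel₀ hxz]
    have hv : f x (z' + y) = 0 := by simp [hxy, hxz', CharTwo.add_self_eq_zero]
    set h := uni x (z' + y) (qf L x (z' + y)) with hh
    have hhL : h ∈ L := qf_mem hx hv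
    have hhz : h • z' = y + (f z' y + qf L x (z' + y)) • x := by
      rw [hh, uni_smul hv, form_comm z' x, hxz', one_smul, mul_one, sympForm_add_right,
        sympForm_self, zero_add, ← add_assoc z' z', add_self_vec, zero_add, add_assoc, ← add_smul]
    have ht := (pair_facts hC hAdj hx hy hxy).2.2 _ (hhz ▸ hzpt.act hhL)
    rw [ht, zero_smul, add_zero] at hhz
    have hz'' : z' = h⁻¹ • y := by rw [← hhz, inv_smul_smul]
    have hgood : GoodAt L ⇑Q z' := by
      rw [hz'']
      exact GoodAt.act hC hAdj hy hQy (L.inv_mem hhL) fun u => by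
        conv_rhs => rw [← smul_inv_smul h u]
        exact (hQx.preserves hQ hv _).symm
    have := GoodAt.smul hC hAdj hzpt hgood hxz
    rwa [hz', smul_smul, mul_inv_cancel₀ hxz, one_smul] at this
  have hba : f b a = 1 := by rw [form_comm, hab]
  have hall : ∀ z, IsPt L z → GoodAt L ⇑Q z := by
    intro z hz
    by_cases hline : ∀ k : F, z ≠ k • a
    · by_cases haz : f a z = 0
      · obtain ⟨v, hva, hvz⟩ := exists_val_pair (indep_pair ha.1 hline) 0 (1 + f z b)
        set d := uni a v (qf L a v) • b with hd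
        have hdpt : IsPt L d := hb.act (qf_mem ha hva)
        have hd' : d = b + v + f b v • a + qf L a v • a := by
          rw [hd, uni_smul hva, hba, one_smul, mul_one]
        have had : f a d = 1 := by simp [hd', hab, hva]
        have hzd : f z d = 1 := by
          simp [hd', form_comm z a, haz, hvz, ← add_assoc, add_left_comm (f z b),
            CharTwo.add_self_eq_zero]
        have hQd := step a b ha hb hab hQa hQb d hdpt (by rw [had]; exact one_ne_zero)
        exact step d a hdpt ha (by rw [form_comm, had]) hQd hQa z hz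
          (by rw [form_comm, hzd]; exact one_ne_zero)
      · exact step a b ha hb hab hQa hQb z hz haz
    · obtain ⟨k, rfl⟩ := not_forall_not.1 hline
      exact GoodAt.smul hC hAdj ha hQa fun h => hz.1 (by rw [h, zero_smul])
  refine ⟨Q, hQ, fun g hg => ?_, a, b, ha, hb, hab, hQa, hQb⟩
  let Q' : QuadraticForm F V := Q.comp (DistribMulAction.toLinearMap F V g)
  have hQ' : ∀ x y, polar ⇑Q' x y = f x y := fun x y => by
    have := hQ (g • x) (g • y)
    rw [sympForm_smul_smul] at this
    rw [← this, QuadraticMap.polar, QuadraticMap.polar]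
    show Q (g • (x + y)) - Q (g • x) - Q (g • y) = _
    rw [smul_add]
  have hgood' : ∀ z, IsPt L z → GoodAt L ⇑Q' z := fun z hz => by
    obtain ⟨h1, h2⟩ := hall _ (hz.act hg)
    refine ⟨h1, fun v hv => ?_⟩
    show _ = Q (g • v)
    rw [← h2 _ (by rw [sympForm_smul_smul, hv]), hC.qf_act hz hv hg]
  exact fun x => good_unique hC hAdj hQ' hQ hab (hgood' a ha) (hgood' b hb).1 hQa hQb.1 x

end Cfsg.Agent.SympX
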