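import Cfsg.Agent.Lib.Linear.Symplectic
import Mathlib.Algebra.CharP.Two

/-!
# Unipotent elements of a point stabiliser of `Sp_2n`, characteristic two

* `uni a v l` : for `f(a, v) = 0` the map `x ↦ x + f(x,a) v + f(x,v) a + l f(x,a) a`
* `uni_mul`, `uni_conj`, `uni_smul_left`, `uni_add_smul`, `uni_swap`
* `exists_vals` : vectors with prescribed products against an independent family
-/

set_option autoImplicit false
set_option linter.unusedSectionVars false

namespace Cfsg.Agent.SympX

open Cfsg Cfsg.Agent.Linear Module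

variable {F : Type*} [Field F] [CharP F 2] {m : ℕ}

local notation "V" => Fin m ⊕ Fin m → F
local notation "f" => Cfsg.sympForm m F

theorem form_comm (x y : V) : f x y = f y x := by
  rw [sympForm_swap, CharTwo.neg_eq]

theorem add_self_vec (x : V) : x + x = 0 := by
  rw [← two_smul F x, CharTwo.two_eq_zero, zero_smul]

/-- The unipotent element attached to `a`, `v ⊥ a` and a scalar. -/
noncomputable def uni (a v : V) (l : F) : Cfsg.spGL m F :=
  spTv (a + v) 1 * spTv v 1 * spTv a (1 + l)

theorem uni_smul {a v : V} (h : f a v = 0) (l : F) (x : V) :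
    uni a v l • x = x + f x a • v + f x v • a + (l * f x a) • a := by
  have h' : f v a = 0 := by rw [form_comm]; exact h
  simp only [uni, mul_smul, spTv_smul, sympForm_add_right, sympForm_add_left, sympForm_smul_left,
    sympForm_self, h, h', mul_zero, add_zero, one_mul]
  ext i
  simp only [Pi.add_apply, Pi.smul_apply, smul_eq_mul]
  linear_combination (f x a * a i + f x v * v i) * (CharTwo.two_eq_zero (R := F))

theorem uni_conj (g : Cfsg.spGL m F) (a v : V) (l : F) :
    g * uni a v l * g⁻¹ = uni (g • a) (g • v) l := by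
  rw [uni, uni, ← smul_add, ← spTv_conj, ← spTv_conj, ← spTv_conj]
  group

theorem uni_zero (a : V) (l : F) : uni a 0 l = spTv a l := by
  rw [uni, add_zero, spTv_zero_vec, mul_one, ← spTv_add, ← add_assoc, CharTwo.add_self_eq_zero,
    zero_add]

theorem uni_fix {a v x : V} (h : f a v = 0) (l : F) (h1 : f x a = 0) (h2 : f x v = 0) :
    uni a v l • x = x := by
  rw [uni_smul h, h1, h2]
  simp

theorem uni_mul {a v w : V} (hv : f a v = 0) (hw : f a w = 0) (l k : F) :
    uni a v l * uni a w k = uni a (v + w) (l + k + f v w) := by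
  refine spGL_ext fun x => ?_
  have hva : f v a = 0 := by rw [form_comm]; exact hv
  have hwa : f w a = 0 := by rw [form_comm]; exact hw
  rw [mul_smul, uni_smul hw, uni_smul hv, uni_smul (by rw [sympForm_add_right, hv, hw, add_zero]),
    sympForm_add_right, form_comm v w]
  simp only [sympForm_add_left, sympForm_smul_left, sympForm_self, hva, hwa, hv, mul_zero, add_zero]
  module

theorem uni_smul_left {a v : V} (h : f a v = 0) (c l : F) :
    uni (c • a) v l = uni a (c • v) (c ^ 2 * l) := by
  refine spGL_ext fun x => ?_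
  rw [uni_smul (by rw [sympForm_smul_left, h, mul_zero]),
    uni_smul (by rw [sympForm_smul_right, h, mul_zero]), sympForm_smul_right, sympForm_smul_right]
  module

theorem uni_add_smul {a v : V} (h : f a v = 0) (k l : F) : uni a (v + k • a) l = uni a v l := by
  refine spGL_ext fun x => ?_
  rw [uni_smul (by rw [sympForm_add_right, sympForm_smul_right, sympForm_self, h]; ring),
    uni_smul h, sympForm_add_right, sympForm_smul_right]
  ext i
  simp only [Pi.add_apply, Pi.smul_apply, smul_eq_mul]
  linear_combination (k * f x a * a i) * (CharTwo.two_eq_zero (R := F))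

theorem uni_swap {a c : V} (h : f a c = 0) (k : F) : uni c (k • a) 0 = uni a (k • c) 0 := by
  refine spGL_ext fun x => ?_
  rw [uni_smul (by rw [sympForm_smul_right, form_comm, h, mul_zero]),
    uni_smul (by rw [sympForm_smul_right, h, mul_zero]), sympForm_smul_right, sympForm_smul_right]
  module

/-- An independent family takes any values against some vector. -/
theorem exists_vals {k : ℕ} {u : Fin k → V} (hu : LinearIndependent F u) (t : Fin k → F) :
    ∃ v, ∀ i, f (u i) v = t i := by
  let B : V →ₗ[F] (Fin k → F) := LinearMap.pi fun i =>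
    { toFun := fun v => f (u i) v
      map_add' := fun v w => sympForm_add_right (u i) v w
      map_smul' := fun c v => sympForm_smul_right c (u i) v }
  suffices h : LinearMap.range B = ⊤ by
    obtain ⟨v, hv⟩ := LinearMap.range_eq_top.1 h t
    exact ⟨v, fun i => congrFun hv i⟩
  by_contra hne
  obtain ⟨p, hp0, hp⟩ := Submodule.exists_le_ker_of_lt_top _ (lt_top_iff_ne_top.2 hne)
  have hsum : ∀ v, f (∑ i, p (Pi.single i 1) • u i) v = p (B v) := by
    intro v
    have hB : B v = ∑ i, f (u i) v • (Pi.single i (1 : F) : Fin k → F) := by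
      conv_lhs => rw [pi_eq_sum_univ' (B v)]
      rfl
    rw [hB, map_sum]
    simp only [map_smul, smul_eq_mul]
    induction (Finset.univ : Finset (Fin k)) using Finset.induction with
    | empty => simp
    | insert i s hi ih =>
      rw [Finset.sum_insert hi, Finset.sum_insert hi, sympForm_add_left, ih, sympForm_smul_left,
        mul_comm]
  have hz : ∑ i, p (Pi.single i 1) • u i = 0 := by
    by_contra hz
    obtain ⟨w, hw⟩ := exists_sympForm_ne_zero hz
    exact hw ((hsum w).trans (hp ⟨w, rfl⟩))
  have hc := Fintype.linearIndependent_iff.1 hu _ hz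
  exact hp0 (LinearMap.pi_ext' fun i => LinearMap.ext_ring (by simpa using hc i))

theorem exists_val_pair {a c : V} (h : LinearIndependent F ![a, c]) (s t : F) :
    ∃ v, f a v = s ∧ f c v = t := by
  obtain ⟨v, hv⟩ := exists_vals h ![s, t]
  exact ⟨v, hv 0, hv 1⟩

theorem exists_val_triple {a c e : V} (h : LinearIndependent F ![a, c, e]) (r s t : F) :
    ∃ v, f a v = r ∧ f c v = s ∧ f e v = t := by
  obtain ⟨v, hv⟩ := exists_vals h ![r, s, t]
  exact ⟨v, hv 0, hv 1, hv 2⟩

theorem indep_pair {a c : V} (ha : a ≠ 0) (hc : ∀ k : F, c ≠ k • a) :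
    LinearIndependent F ![a, c] := by
  refine LinearIndependent.pair_iff.2 fun s t hst => ?_
  have ht : t = 0 := by
    by_contra ht
    refine hc (t⁻¹ * s) ?_
    rw [mul_smul, show s • a = t • c by
      rw [← sub_eq_zero, sub_eq_add_neg, ← neg_smul, CharTwo.neg_eq]; exact hst,
      inv_smul_smul₀ ht]
  rw [ht, zero_smul, add_zero, smul_eq_zero] at hst
  exact ⟨hst.resolve_right ha, ht⟩

theorem indep_triple {a c e : V} (ha : a ≠ 0) (hc : ∀ k : F, c ≠ k • a)
    (he : ∀ k l : F, e ≠ k • a + l • c) : LinearIndependent F ![a, c, e] := by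
  rw [Fintype.linearIndependent_iff]
  intro g hg
  rw [Fin.sum_univ_three] at hg
  simp only [Matrix.cons_val_zero, Matrix.cons_val_one, Matrix.cons_val] at hg
  have h2 : g 2 = 0 := by
    by_contra h2
    refine he ((g 2)⁻¹ * g 0) ((g 2)⁻¹ * g 1) ?_
    rw [mul_smul, mul_smul, ← smul_add, show g 0 • a + g 1 • c = g 2 • e by
      rw [← sub_eq_zero, sub_eq_add_neg, ← neg_smul, CharTwo.neg_eq]; exact hg, inv_smul_smul₀ h2]
  rw [h2, zero_smul, add_zero] at hg
  obtain ⟨h0, h1⟩ := LinearIndependent.pair_iff.1 (indep_pair ha hc) _ _ hg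
  intro i
  fin_cases i <;> assumption

/-- A vector with non-zero products against two given non-zero vectors. -/
theorem exists_val_two {a c : V} (ha : a ≠ 0) (hc : c ≠ 0) : ∃ v, f a v ≠ 0 ∧ f c v ≠ 0 := by
  by_cases h : ∀ k : F, c ≠ k • a
  · obtain ⟨v, h1, h2⟩ := exists_val_pair (indep_pair ha h) 1 1
    exact ⟨v, by rw [h1]; exact one_ne_zero, by rw [h2]; exact one_ne_zero⟩
  · obtain ⟨k, hk⟩ := not_forall_not.1 h
    obtain ⟨v, hv⟩ := exists_sympForm_ne_zero ha
    refine ⟨v, hv, ?_⟩
    subst hk
    rw [sympForm_smul_left]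
    exact mul_ne_zero (fun h0 => hc (by rw [h0, zero_smul])) hv

end Cfsg.Agent.SympX
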