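import Cfsg.Agent.Lib.SympX.Tables

/-!
# Kernel test of the certificates of minus type

* `minusGroups_ok` : every group of the list passes
-/

set_option autoImplicit false
set_option maxRecDepth 100000
set_option maxHeartbeats 4000000
-- one kernel run at a time keeps the memory small
set_option Elab.async false

namespace Cfsg.Agent.SympX

theorem symEnum_eq : symEnum = symCodes := by decide +kernel

theorem minusGrp0_ok : minusGrp0.ok minusGroups symCodes 0 = true := by
  decide +kernel

theorem minusGrp1_ok : minusGrp1.ok minusGroups symCodes 1 = true := by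
  decide +kernel

theorem minusGrp2_ok : minusGrp2.ok minusGroups symCodes 2 = true := by
  decide +kernel

theorem minusGrp3_ok : minusGrp3.ok minusGroups symCodes 3 = true := by
  decide +kernel

theorem minusGrp4_ok : minusGrp4.ok minusGroups symCodes 4 = true := by
  decide +kernel

theorem minusGrp5_ok : minusGrp5.ok minusGroups symCodes 5 = true := by
  decide +kernel

theorem minusGrp6_ok : minusGrp6.ok minusGroups symCodes 6 = true := by
  decide +kernel

theorem minusGrp7_ok : minusGrp7.ok minusGroups symCodes 7 = true := by
  decide +kernel

theorem minusGrp8_ok : minusGrp8.ok minusGroups symCodes 8 = true := by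
  decide +kernel

theorem minusGrp9_ok : minusGrp9.ok minusGroups symCodes 9 = true := by
  decide +kernel

theorem minusGrp10_ok : minusGrp10.ok minusGroups symCodes 10 = true := by
  decide +kernel

theorem minusGrp11_ok : minusGrp11.ok minusGroups symCodes 11 = true := by
  decide +kernel

theorem minusGrp12_ok : minusGrp12.ok minusGroups symCodes 12 = true := by
  decide +kernel

theorem minusGrp13_ok : minusGrp13.ok minusGroups symCodes 13 = true := by
  decide +kernel

theorem minusGrp14_ok : minusGrp14.ok minusGroups symCodes 14 = true := by
  decide +kernel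

theorem minusGrp15_ok : minusGrp15.ok minusGroups symCodes 15 = true := by
  decide +kernel

theorem minusGrp16_ok : minusGrp16.ok minusGroups symCodes 16 = true := by
  decide +kernel

theorem minusGrp17_ok : minusGrp17.ok minusGroups symCodes 17 = true := by
  decide +kernel

theorem minusGroups_ok (i : ℕ) (K : Grp) (h : minusGroups[i]? = some K) :
    K.ok minusGroups symCodes i = true := by
  match i, h with
  | 0, h => exact Option.some.inj h ▸ minusGrp0_ok
  | 1, h => exact Option.some.inj h ▸ minusGrp1_ok
  | 2, h => exact Option.some.inj h ▸ minusGrp2_ok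
  | 3, h => exact Option.some.inj h ▸ minusGrp3_ok
  | 4, h => exact Option.some.inj h ▸ minusGrp4_ok
  | 5, h => exact Option.some.inj h ▸ minusGrp5_ok
  | 6, h => exact Option.some.inj h ▸ minusGrp6_ok
  | 7, h => exact Option.some.inj h ▸ minusGrp7_ok
  | 8, h => exact Option.some.inj h ▸ minusGrp8_ok
  | 9, h => exact Option.some.inj h ▸ minusGrp9_ok
  | 10, h => exact Option.some.inj h ▸ minusGrp10_ok
  | 11, h => exact Option.some.inj h ▸ minusGrp11_ok
  | 12, h => exact Option.some.inj h ▸ minusGrp12_ok
  | 13, h => exact Option.some.inj h ▸ minusGrp13_ok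
  | 14, h => exact Option.some.inj h ▸ minusGrp14_ok
  | 15, h => exact Option.some.inj h ▸ minusGrp15_ok
  | 16, h => exact Option.some.inj h ▸ minusGrp16_ok
  | 17, h => exact Option.some.inj h ▸ minusGrp17_ok
  | j + 18, h => exact absurd h (by simp [minusGroups])

end Cfsg.Agent.SympX
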