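import Cfsg.Agent.Lib.SympX.Tables

/-!
# Kernel test of the certificates of plus type

* `plusGroups_ok` : every group of the list passes
-/

set_option autoImplicit false
set_option maxRecDepth 100000
set_option maxHeartbeats 4000000
-- one kernel run at a time keeps the memory small
set_option Elab.async false

namespace Cfsg.Agent.SympX

theorem plusGrp0_ok : plusGrp0.ok plusGroups symCodes 0 = true := by
  decide +kernel

theorem plusGrp1_ok : plusGrp1.ok plusGroups symCodes 1 = true := by
  decide +kernel

theorem plusGrp2_ok : plusGrp2.ok plusGroups symCodes 2 = true := by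
  decide +kernel

theorem plusGrp3_ok : plusGrp3.ok plusGroups symCodes 3 = true := by
  decide +kernel

theorem plusGrp4_ok : plusGrp4.ok plusGroups symCodes 4 = true := by
  decide +kernel

theorem plusGrp5_ok : plusGrp5.ok plusGroups symCodes 5 = true := by
  decide +kernel

theorem plusGrp6_ok : plusGrp6.ok plusGroups symCodes 6 = true := by
  decide +kernel

theorem plusGrp7_ok : plusGrp7.ok plusGroups symCodes 7 = true := by
  decide +kernel

theorem plusGrp8_ok : plusGrp8.ok plusGroups symCodes 8 = true := by
  decide +kernel

theorem plusGrp9_ok : plusGrp9.ok plusGroups symCodes 9 = true := by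
  decide +kernel

theorem plusGrp10_ok : plusGrp10.ok plusGroups symCodes 10 = true := by
  decide +kernel

theorem plusGrp11_ok : plusGrp11.ok plusGroups symCodes 11 = true := by
  decide +kernel

theorem plusGrp12_ok : plusGrp12.ok plusGroups symCodes 12 = true := by
  decide +kernel

theorem plusGrp13_ok : plusGrp13.ok plusGroups symCodes 13 = true := by
  decide +kernel

theorem plusGroups_ok (i : ℕ) (K : Grp) (h : plusGroups[i]? = some K) :
    K.ok plusGroups symCodes i = true := by
  match i, h with
  | 0, h => exact Option.some.inj h ▸ plusGrp0_ok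
  | 1, h => exact Option.some.inj h ▸ plusGrp1_ok
  | 2, h => exact Option.some.inj h ▸ plusGrp2_ok
  | 3, h => exact Option.some.inj h ▸ plusGrp3_ok
  | 4, h => exact Option.some.inj h ▸ plusGrp4_ok
  | 5, h => exact Option.some.inj h ▸ plusGrp5_ok
  | 6, h => exact Option.some.inj h ▸ plusGrp6_ok
  | 7, h => exact Option.some.inj h ▸ plusGrp7_ok
  | 8, h => exact Option.some.inj h ▸ plusGrp8_ok
  | 9, h => exact Option.some.inj h ▸ plusGrp9_ok
  | 10, h => exact Option.some.inj h ▸ plusGrp10_ok
  | 11, h => exact Option.some.inj h ▸ plusGrp11_ok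
  | 12, h => exact Option.some.inj h ▸ plusGrp12_ok
  | 13, h => exact Option.some.inj h ▸ plusGrp13_ok
  | j + 14, h => exact absurd h (by simp [plusGroups])

end Cfsg.Agent.SympX
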