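import Cfsg.Agent.Lib.SympX.Points

/-!
# Overgroups without transvections at their points: the functions `qf` and the pair lemma

* `Clean L`, `qf L a` : the scalar over `a⊥`
* `AdjOK L` : `qf a` vanishes on the lines of adjacent points; `adjOK_of_ne` : true unless `|F| = 2 = m`
* `pair_facts` : for `f(a,b) = 1`: `qf a` is quadratic, equals `qf b` on the common orthogonal,
  and `b` is the only point `b + t a`
-/

set_option autoImplicit false
set_option linter.unusedSectionVars false

namespace Cfsg.Agent.SympX

open Cfsg Cfsg.Agent.Linear Module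

variable {F : Type*} [Field F] [CharP F 2] [Fintype F] {m : ℕ} {L : Subgroup (Cfsg.spGL m F)}

local notation "V" => Fin m ⊕ Fin m → F
local notation "f" => Cfsg.sympForm m F

/-- Irreducible, and no point is the centre of a transvection in `L`. -/
structure Clean (L : Subgroup (Cfsg.spGL m F)) : Prop where
  two : 2 ≤ m
  irr : Irred L
  pts : ∃ a, IsPt L a
  notv : ∀ a, IsPt L a → ∀ t, spTv a t ∈ L → t = 0

open Classical in
/-- The scalar over an orthogonal vector. -/
noncomputable def qf (L : Subgroup (Cfsg.spGL m F)) (a v : V) : F :=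
  if h : ∃ l, uni a v l ∈ L then h.choose else 0

variable {a b c d v w : Fin m ⊕ Fin m → F}

theorem qf_mem (ha : IsPt L a) (hv : f a v = 0) : uni a v (qf L a v) ∈ L := by
  rw [qf, dif_pos (ha.2 v hv)]
  exact (ha.2 v hv).choose_spec

namespace Clean

theorem qf_eq (hC : Clean L) (ha : IsPt L a) (hv : f a v = 0) {l : F} (h : uni a v l ∈ L) :
    qf L a v = l :=
  CharTwo.add_eq_zero.1 (hC.notv a ha _ (tv_of_two hv (qf_mem ha hv) h))

theorem qf_zero (hC : Clean L) (ha : IsPt L a) : qf L a 0 = 0 :=
  hC.qf_eq ha (sympForm_zero_right a) (by rw [uni_zero, spTv_zero]; exact L.one_mem)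

theorem qf_add (hC : Clean L) (ha : IsPt L a) (hv : f a v = 0) (hw : f a w = 0) :
    qf L a (v + w) = qf L a v + qf L a w + f v w := by
  refine hC.qf_eq ha (by simp [hv, hw]) ?_
  rw [← uni_mul hv hw]
  exact L.mul_mem (qf_mem ha hv) (qf_mem ha hw)

theorem qf_add_smul (hC : Clean L) (ha : IsPt L a) (hv : f a v = 0) (k : F) :
    qf L a (v + k • a) = qf L a v := by
  refine hC.qf_eq ha (by simp [hv]) ?_
  rw [uni_add_smul hv]
  exact qf_mem ha hv

theorem qf_self (hC : Clean L) (ha : IsPt L a) (k : F) : qf L a (k • a) = 0 := by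
  have := hC.qf_add_smul ha (sympForm_zero_right a) k
  rwa [zero_add, hC.qf_zero ha] at this

theorem qf_act (hC : Clean L) (ha : IsPt L a) (hv : f a v = 0) {g : Cfsg.spGL m F} (hg : g ∈ L) :
    qf L (g • a) (g • v) = qf L a v := by
  refine hC.qf_eq (ha.act hg) (by rw [sympForm_smul_smul, hv]) ?_
  rw [← uni_conj]
  exact L.mul_mem (L.mul_mem hg (qf_mem ha hv)) (L.inv_mem hg)

theorem qf_scale (hC : Clean L) (ha : IsPt L a) (hv : f a v = 0) {k : F} (hk : k ≠ 0) :
    qf L (k • a) v = (k ^ 2)⁻¹ * qf L a (k • v) := by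
  refine hC.qf_eq (ha.smul hk) (by simp [hv]) ?_
  rw [uni_smul_left hv, mul_inv_cancel_left₀ (pow_ne_zero _ hk)]
  exact qf_mem ha (by simp [hv])

/-- The invariance of `qf a` under the elements at an adjacent point fixing `a`. -/
theorem ident (hC : Clean L) (ha : IsPt L a) (hc : IsPt L c) (hac : f a c = 0) {u : V}
    (hau : f a u = 0) (hcu : f c u = 0) (hav : f a v = 0) :
    qf L a (f v c • u + f v u • c + (qf L c u * f v c) • c) +
      f v (f v c • u + f v u • c + (qf L c u * f v c) • c) = 0 := by
  set g := uni c u (qf L c u) with hg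
  set d := f v c • u + f v u • c + (qf L c u * f v c) • c with hd
  have hga : g • a = a := uni_fix hcu _ hac hau
  have hgv : g • v = v + d := by rw [hg, uni_smul hcu, hd]; abel
  have had : f a d = 0 := by simp [hd, hau, hac]
  have h := hC.qf_act ha hav (g := g) (qf_mem hc hcu)
  rw [hga, hgv, hC.qf_add ha hav had, add_assoc] at h
  exact add_eq_left.1 h

end Clean

/-- `qf a` vanishes on the lines of the points adjacent to `a`. -/
def AdjOK (L : Subgroup (Cfsg.spGL m F)) : Prop :=
  ∀ a c, IsPt L a → IsPt L c → f a c = 0 → ∀ r : F, qf L a (r • c) = 0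

/-- Outside the span of two vectors there is a vector orthogonal to both, `m ≥ 3`. -/
theorem exists_orth_outside (hm : 3 ≤ m) (a c : V) :
    ∃ u : V, f a u = 0 ∧ f c u = 0 ∧ ∀ k l : F, u ≠ k • a + l • c := by
  let B : V →ₗ[F] F × F :=
    { toFun := fun v => (f a v, f c v)
      map_add' := fun v w => by simp
      map_smul' := fun c v => by simp }
  by_contra! hall
  have hle : LinearMap.ker B ≤ Submodule.span F {a, c} := fun u hu => by
    have h := LinearMap.mem_ker.1 hu
    obtain ⟨k, l, e⟩ := hall u (congrArg Prod.fst h) (congrArg Prod.snd h)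
    exact Submodule.mem_span_pair.2 ⟨k, l, e.symm⟩
  have h1 := Submodule.finrank_mono hle
  have h2 : finrank F (Submodule.span F ({a, c} : Set V)) ≤ 2 := by
    classical
    have := finrank_span_le_card (R := F) ({a, c} : Set V)
    refine this.trans ?_
    rw [Set.toFinset_insert, Set.toFinset_singleton]
    exact Finset.card_le_two
  have h3 := LinearMap.finrank_range_add_finrank_ker B
  have h4 := Submodule.finrank_le (LinearMap.range B)
  simp at h3 h4
  omega

/-- A vector not adjacent in the span of `a` alone. -/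
theorem Clean.adjOK_of_ne (hC : Clean L) (h : Fintype.card F ≠ 2 ∨ m ≠ 2) : AdjOK L := by
  intro a c ha hc hac r
  by_cases hline : ∃ k : F, c = k • a
  · obtain ⟨k, rfl⟩ := hline
    rw [smul_smul]; exact hC.qf_self ha _
  push Not at hline
  by_cases hm : 3 ≤ m
  · obtain ⟨u, hau, hcu, hu⟩ := exists_orth_outside hm a c
    obtain ⟨v, hva, hvc, hvu⟩ := exists_val_triple (indep_triple ha.1 hline hu) 0 0 r
    have := hC.ident ha hc hac hau hcu hva
    simp only [form_comm v c, hvc, form_comm v u, hvu, mul_zero, zero_smul, zero_add, add_zero,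
      sympForm_smul_right] at this
    exact this
  have hq : Fintype.card F ≠ 2 := h.resolve_right (by have := hC.two; omega)
  have hcc : ∀ k : F, f c (k • a) = 0 := fun k => by simp [form_comm c a, hac]
  -- the transvection induced on `a⊥/a`
  have key : ∀ k p : F, qf L a ((qf L c (k • a) * p) • c) = qf L c (k • a) * p ^ 2 := by
    intro k p
    obtain ⟨v, hva, hvc⟩ := exists_val_pair (indep_pair ha.1 hline) 0 p
    have h0 := hC.ident ha hc hac (show f a (k • a) = 0 by simp) (hcc k) hva
    rw [form_comm v c, hvc, sympForm_smul_right, form_comm v a, hva, mul_zero, zero_smul, add_zero,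
      smul_smul, add_comm ((p * k) • a),
      hC.qf_add_smul ha (by simp [hac]), sympForm_add_right, sympForm_smul_right,
      sympForm_smul_right, form_comm v a, hva, mul_zero, add_zero, form_comm v c, hvc] at h0
    linear_combination (CharTwo.add_eq_zero.1 h0)
  by_cases hz : ∃ k : F, k ≠ 0 ∧ qf L c (k • a) = 0
  · obtain ⟨k, hk, hk0⟩ := hz
    have h0 : qf L a (k • c) = 0 := by
      refine hC.qf_eq ha (by simp [hac]) ?_
      rw [← uni_swap hac]
      exact hk0 ▸ qf_mem hc (hcc k)
    have hall : ∀ l : F, qf L c (l • a) = 0 := by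
      intro l
      by_contra hl
      have h1 := key l ((qf L c (l • a))⁻¹ * k)
      rw [mul_inv_cancel_left₀ hl, h0] at h1
      exact mul_ne_zero hl (pow_ne_zero _ (mul_ne_zero (inv_ne_zero hl) hk)) h1.symm
    rcases eq_or_ne r 0 with rfl | hr
    · rw [zero_smul]; exact hC.qf_zero ha
    refine hC.qf_eq ha (by simp [hac]) ?_
    rw [← uni_swap hac]
    exact hall r ▸ qf_mem hc (hcc r)
  · exfalso
    push Not at hz
    obtain ⟨k, hk0, hk1⟩ : ∃ k : F, k ≠ 0 ∧ k ≠ 1 := by
      classical
      by_contra! hall
      apply hq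
      have : (Finset.univ : Finset F) = {0, 1} := by
        ext x
        simp only [Finset.mem_univ, Finset.mem_insert, Finset.mem_singleton, true_iff]
        exact (em (x = 0)).imp id (hall x)
      rw [← Finset.card_univ, this, Finset.card_insert_of_notMem (by simp), Finset.card_singleton]
    have hk : 1 + k ≠ 0 := fun h => hk1 (CharTwo.add_eq_zero.1 h).symm
    have val : ∀ l : F, l ≠ 0 → qf L c (l • a) * qf L a c = 1 := by
      intro l hl
      have := key l (qf L c (l • a))⁻¹
      rw [mul_inv_cancel₀ (hz l hl), one_smul] at this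
      rw [this]
      field_simp [hz l hl]
    have e1 := val 1 one_ne_zero
    have e2 := val k hk0
    have e3 := val (1 + k) hk
    rw [add_smul, hC.qf_add hc (hcc 1) (hcc k), sympForm_smul_left, sympForm_smul_right,
      sympForm_self, mul_zero, mul_zero, add_zero, add_mul, e1, e2, CharTwo.add_self_eq_zero] at e3
    exact zero_ne_one e3

/-- `a` has two adjacent points that are not adjacent to each other. -/
def Nb (L : Subgroup (Cfsg.spGL m F)) (a : V) : Prop :=
  ∃ c d, IsPt L c ∧ IsPt L d ∧ f a c = 0 ∧ f a d = 0 ∧ f c d ≠ 0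

theorem not_line_of_form {a c d : V} (had : f a d = 0) (hcd : f c d ≠ 0) :
    ∀ k : F, c ≠ k • a := by
  rintro k rfl
  exact hcd (by simp [had])

theorem eq_of_add_eq_zero_vec {x y : V} (h : x + y = 0) : x = y := by
  rw [← add_zero x, ← add_self_vec y, ← add_assoc, h, zero_add]

variable (hC : Clean L) (hAdj : AdjOK L)
include hC hAdj

theorem adj_semi (ha : IsPt L a) (hc : IsPt L c) (hac : f a c = 0) (hline : ∀ k : F, c ≠ k • a)
    {u : V} (hau : f a u = 0) (hcu : f c u = 0) (p : F) :
    qf L a (p • u) = p ^ 2 * qf L a u := by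
  by_cases hu : ∀ k l : F, u ≠ k • a + l • c
  · have hs : ∀ p : F, qf L a (p • u) = p ^ 2 * qf L c u := by
      intro p
      obtain ⟨v, hva, hvc, hvu⟩ := exists_val_triple (indep_triple ha.1 hline hu) 0 p 0
      have h0 := hC.ident ha hc hac hau hcu hva
      have e1 : f v c = p := by rw [form_comm]; exact hvc
      have e2 : f v u = 0 := by rw [form_comm]; exact hvu
      rw [e1, e2, zero_smul, add_zero, hC.qf_add ha (by simp [hau]) (by simp [hac]),
        hAdj a c ha hc hac] at h0
      simp only [sympForm_add_right, sympForm_smul_right, sympForm_smul_left, e1, e2,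
        form_comm u c, hcu, mul_zero, add_zero, zero_add] at h0
      linear_combination (CharTwo.add_eq_zero.1 h0)
    rw [hs p, ← one_smul F u, hs 1, one_smul, one_pow, one_mul]
  · push Not at hu
    obtain ⟨k, l, rfl⟩ := hu
    rw [smul_add, smul_smul, smul_smul, add_comm, hC.qf_add_smul ha (by simp [hac]),
      hAdj a c ha hc hac, add_comm (k • a), hC.qf_add_smul ha (by simp [hac]),
      hAdj a c ha hc hac, mul_zero]

theorem Nb.quad (ha : IsPt L a) (h : Nb L a) (hv : f a v = 0) (k : F) :
    qf L a (k • v) = k ^ 2 * qf L a v := by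
  obtain ⟨c, d, hc, hd, hac, had, hcd⟩ := h
  set l := f c v / f c d with hl
  set u := v + l • d with hu
  have hau : f a u = 0 := by simp [hu, hv, had]
  have hcu : f c u = 0 := by
    rw [hu, sympForm_add_right, sympForm_smul_right, hl, div_mul_cancel₀ _ hcd,
      CharTwo.add_self_eq_zero]
  have hv' : v = u + l • d := by rw [hu, add_assoc, add_self_vec, add_zero]
  rw [hv', smul_add, smul_smul, hC.qf_add ha (by simp [hau]) (by simp [had]),
    hAdj a d ha hd had, adj_semi hC hAdj ha hc hac (not_line_of_form had hcd) hau hcu,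
    hC.qf_add ha hau (by simp [had]), hAdj a d ha hd had, sympForm_smul_left, sympForm_smul_right,
    sympForm_smul_right]
  ring

theorem line_pt (ha : IsPt L a) (hc : IsPt L c) (hac : f a c = 0) (hline : ∀ k : F, c ≠ k • a)
    (k : F) : IsPt L (c + k • a) := by
  obtain ⟨v, hva, hvc⟩ := exists_val_pair (indep_pair ha.1 hline) 0 k
  have := hc.act (qf_mem ha hva)
  rwa [uni_smul hva, form_comm c a, hac, mul_zero, zero_smul, zero_smul, add_zero, add_zero,
    hvc] at this

theorem sing_pt_of_ne (ha : IsPt L a) (hc : IsPt L c) (hd : IsPt L d) (hac : f a c = 0)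
    (had : f a d = 0) (hcd : f c d ≠ 0) (haw : f a w = 0) (hw : qf L a w = 0) (hcw : f c w ≠ 0)
    (hq : ∀ v, f a v = 0 → ∀ k : F, qf L a (k • v) = k ^ 2 * qf L a v) : IsPt L w := by
  set j := f c d with hj
  set i := f c w with hi
  set u := j⁻¹ • ((j / i) • w + d) with hu
  have hau : f a u = 0 := by simp [hu, haw, had]
  have hcu : f c u = 0 := by
    rw [hu, sympForm_smul_right, sympForm_add_right, sympForm_smul_right, ← hi, ← hj,
      div_mul_cancel₀ _ hcw, CharTwo.add_self_eq_zero, mul_zero]
  have he : IsPt L (uni c u (qf L c u) • d) := hd.act (qf_mem hc hcu)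
  set ρ := f d u + qf L c u * j with hρ
  have he' : uni c u (qf L c u) • d = (j / i) • w + ρ • c := by
    rw [uni_smul hcu, form_comm d c, ← hj, hρ, add_smul, hu, smul_smul, mul_inv_cancel₀ hcd,
      one_smul, ← add_assoc, ← add_assoc, add_comm _ d, ← add_assoc, add_self_vec, zero_add]
  rw [he'] at he
  have h1 : f a ((j / i) • w + ρ • c) = 0 := by simp [haw, hac]
  have h2 := hAdj a _ ha he h1 1
  rw [one_smul, hC.qf_add ha (by simp [haw]) (by simp [hac]), hq w haw, hw, mul_zero, zero_add,
    hAdj a c ha hc hac, zero_add, sympForm_smul_left, sympForm_smul_right, form_comm w c, ← hi,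
    mul_eq_zero, mul_eq_zero, or_iff_left hcw, or_iff_right (div_ne_zero hcd hcw)] at h2
  rw [h2, zero_smul, add_zero] at he
  have := he.smul (c := i / j) (div_ne_zero hcw hcd)
  rwa [smul_smul, show i / j * (j / i) = 1 by field_simp, one_smul] at this

theorem Nb.sing_pt (ha : IsPt L a) (h : Nb L a) (haw : f a w = 0) (hw : qf L a w = 0)
    (hline : ∀ k : F, w ≠ k • a) : IsPt L w := by
  have hq := fun v (hv : f a v = 0) (k : F) => Nb.quad hC hAdj ha h hv k
  obtain ⟨c, d, hc, hd, hac, had, hcd⟩ := h
  by_cases hcw : f c w = 0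
  swap
  · exact sing_pt_of_ne hC hAdj ha hc hd hac had hcd haw hw hcw hq
  by_cases hdw : f d w = 0
  swap
  · exact sing_pt_of_ne hC hAdj ha hd hc had hac (by rwa [form_comm]) haw hw hdw hq
  by_cases hspan : ∀ k l : F, w ≠ k • a + l • c
  · set j := f c d with hj
    obtain ⟨u, hua, huc, huw⟩ := exists_val_triple
      (indep_triple ha.1 (not_line_of_form had hcd) hspan) 0 0 1
    set r := qf L a (d + j • u) / j with hr
    set e := (d + j • u) + r • c with he
    have hae : f a e = 0 := by simp [he, had, hua, hac]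
    have hdc : f d c = j := by rw [form_comm, ← hj]
    have huc' : f u c = 0 := by rw [form_comm]; exact huc
    have hqe : qf L a e = 0 := by
      rw [he, hC.qf_add ha (by simp [had, hua]) (by simp [hac]), hAdj a c ha hc hac, add_zero,
        sympForm_smul_right, sympForm_add_left, sympForm_smul_left, hdc, huc', mul_zero, add_zero,
        hr, div_mul_cancel₀ _ hcd, CharTwo.add_self_eq_zero]
    have hce : f c e = j := by simp [he, ← hj, huc]
    have hwe : f e w = j := by
      have huw' : f u w = 1 := by rw [form_comm]; exact huw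
      simp [he, hdw, huw', hcw]
    have hept := sing_pt_of_ne hC hAdj ha hc hd hac had hcd hae hqe (by rw [hce]; exact hcd) hq
    exact sing_pt_of_ne hC hAdj ha hept hc hae hac (by rw [form_comm, hce]; exact hcd) haw hw
      (by rw [hwe]; exact hcd) hq
  · push Not at hspan
    obtain ⟨k, l, rfl⟩ := hspan
    have hl : l ≠ 0 := fun h => hline k (by rw [h, zero_smul, add_zero])
    have := (line_pt hC hAdj ha hc hac (not_line_of_form had hcd) (k / l)).smul hl
    rwa [smul_add, smul_smul, mul_div_cancel₀ _ hl, add_comm] at this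

/-- One zero in the common orthogonal gives two non-adjacent neighbours of `b`. -/
theorem nb_of_zero (ha : IsPt L a) (hb : IsPt L b) (hab : f a b = 1) {u : V} (hu0 : u ≠ 0)
    (hau : f a u = 0) (hbu : f b u = 0) (hu : qf L a u = 0) : Nb L b := by
  classical
  have hab0 : f a b ≠ 0 := by rw [hab]; exact one_ne_zero
  have hadd : ∀ k k' : F, qf L a ((k + k') • u) = qf L a (k • u) + qf L a (k' • u) := fun k k' => by
    rw [add_smul, hC.qf_add ha (by simp [hau]) (by simp [hau])]
    simp
  obtain ⟨j, hj⟩ : ∃ j : F, ∀ k : F, qf L a (k • u) + k * j = 0 → k = 0 := by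
    by_contra! hbad
    choose k hk hk0 using hbad
    have hinj : Function.Injective k := by
      intro j j' e
      have h1 := hk j
      rw [e] at h1
      exact mul_left_cancel₀ (hk0 j') (add_left_cancel (h1.trans (hk j').symm))
    obtain ⟨j, hj⟩ := (Finite.injective_iff_surjective.1 hinj) 0
    exact hk0 j hj
  have hj0 : j ≠ 0 := fun h => one_ne_zero (hj 1 (by rw [one_smul, hu, h]; ring))
  let φ : F →+ F := AddMonoidHom.mk' (fun k => qf L a (k • u) + k * j) fun k k' => by
    simp only [hadd]; ring
  have hinj : Function.Injective φ := (injective_iff_map_eq_zero φ).2 hj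
  have hna := not_smul_of_pair hab0 hu0 hbu
  have hb' : ∀ k : F, b ≠ k • a := by
    rintro k rfl
    exact hab0 (by simp)
  have hne : ∀ k l : F, u ≠ k • a + l • b := by
    intro k l e
    have h1 : f a u = l := by simp [e, hab]
    rw [← h1, hau, zero_smul, add_zero] at e
    exact hna k e
  obtain ⟨z, hza, hzb, hzu⟩ := exists_val_triple (indep_triple ha.1 hb' hne) 0 0 j
  obtain ⟨k, hk⟩ := (Finite.injective_iff_surjective.1 hinj) (qf L a z)
  have hk' : qf L a (k • u) + k * j = qf L a z := hk
  set z' := z + k • u with hz'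
  have haz : f a z' = 0 := by simp [hz', hza, hau]
  have hbz : f b z' = 0 := by simp [hz', hzb, hbu]
  have hqz : qf L a z' = 0 := by
    rw [hz', hC.qf_add ha hza (by simp [hau]), sympForm_smul_right, form_comm z u, hzu, ← hk']
    linear_combination (qf L a (k • u) + k * j) * (CharTwo.two_eq_zero (R := F))
  have mk : ∀ y, f a y = 0 → f b y = 0 → qf L a y = 0 → IsPt L (b + y) := by
    intro y hy hy' hy0
    have := hb.act (qf_mem ha hy)
    rwa [uni_smul hy, hy0, zero_mul, zero_smul, add_zero, form_comm b a, hab, one_smul, hy',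
      zero_smul, add_zero] at this
  refine ⟨b + u, b + z', mk u hau hbu hu, mk z' haz hbz hqz, by simp [hbu], by simp [hbz], ?_⟩
  simp [hz', form_comm u b, hbu, hzu, hzb, hj0]

/-- Neighbours give a zero in the common orthogonal. -/
theorem zero_of_nb (ha : IsPt L a) (hab : f a b = 1) (hc : IsPt L c) (hac : f a c = 0)
    (hline : ∀ k : F, c ≠ k • a) :
    IsPt L (c + f b c • a) ∧ f a (c + f b c • a) = 0 ∧ f b (c + f b c • a) = 0 ∧
      qf L a (c + f b c • a) = 0 ∧ c + f b c • a ≠ 0 := by
  refine ⟨line_pt hC hAdj ha hc hac hline _, by simp [hac], ?_, ?_, ?_⟩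
  · rw [sympForm_add_right, sympForm_smul_right, form_comm b a, hab, mul_one,
      CharTwo.add_self_eq_zero]
  · rw [hC.qf_add_smul ha hac, ← one_smul F c]; exact hAdj a c ha hc hac 1
  · intro h
    exact hline _ (eq_of_add_eq_zero_vec h)

/-- The pair lemma when `qf a` has a zero on the common orthogonal. -/
theorem pair_facts_iso (ha : IsPt L a) (hb : IsPt L b) (hab : f a b = 1) (hA : Nb L a)
    (hB : Nb L b) :
    (∀ v, f a v = 0 → ∀ k : F, qf L a (k • v) = k ^ 2 * qf L a v) ∧
      (∀ v, f a v = 0 → f b v = 0 → qf L b v = qf L a v) ∧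
      ∀ t : F, IsPt L (b + t • a) → t = 0 := by
  have hq := fun v (hv : f a v = 0) (k : F) => Nb.quad hC hAdj ha hA hv k
  obtain ⟨c, d, hc, hd, hac, had, hcd⟩ := id hA
  obtain ⟨hc0, hac0, hbc0, hqc0, hc00⟩ :=
    zero_of_nb hC hAdj ha hab hc hac (not_line_of_form had hcd)
  obtain ⟨hd0, had0, hbd0, hqd0, hd00⟩ :=
    zero_of_nb hC hAdj ha hab hd had (not_line_of_form hac (by rwa [form_comm]))
  set c0 := c + f b c • a
  set d0 := d + f b d • a
  set j := f c0 d0 with hj
  have hj0 : j ≠ 0 := by
    have hca : f c a = 0 := by rw [form_comm]; exact hac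
    have : j = f c d := by simp [hj, c0, d0, hca, had]
    rwa [this]
  have hdc : f d0 c0 = j := by rw [form_comm]
  refine ⟨hq, ?_, ?_⟩
  · -- the part orthogonal to the two zeros
    have hperp : ∀ v, f a v = 0 → f b v = 0 → f c0 v = 0 → f d0 v = 0 →
        qf L b v = qf L a v := by
      intro v hav hbv hcv hdv
      set r := qf L a v / j with hr
      set e := (v + d0) + r • c0 with he
      have hvd : f v d0 = 0 := by rw [form_comm]; exact hdv
      have hvc : f v c0 = 0 := by rw [form_comm]; exact hcv
      have hqe : qf L a e = 0 := by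
        rw [he, hC.qf_add ha (by simp [hav, had0]) (by simp [hac0]), hAdj a c0 ha hc0 hac0,
          hC.qf_add ha hav had0, hqd0, hvd, sympForm_smul_right, sympForm_add_left, hvc, hdc, hr]
        field_simp
        linear_combination qf L a v * j * (CharTwo.two_eq_zero (R := F))
      have hae : f a e = 0 := by simp [he, hav, had0, hac0]
      have hbe : f b e = 0 := by simp [he, hbv, hbd0, hbc0]
      have hept : IsPt L e := by
        refine Nb.sing_pt hC hAdj ha hA hae hqe fun k e' => hj0 ?_
        have := congrArg (f c0) e'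
        simpa [he, hcv, form_comm c0 a, hac0] using this
      have h := hAdj b e hb hept hbe 1
      rw [one_smul, he, hC.qf_add hb (by simp [hbv, hbd0]) (by simp [hbc0]),
        hAdj b c0 hb hc0 hbc0, hC.qf_add hb hbv hbd0, ← one_smul F d0, hAdj b d0 hb hd0 hbd0,
        one_smul, hvd, sympForm_smul_right, sympForm_add_left, hvc, hdc, hr,
        zero_add, div_mul_cancel₀ _ hj0] at h
      exact CharTwo.add_eq_zero.1 (by linear_combination h)
    intro v hav hbv
    set α := f d0 v / j with hα
    set β := f c0 v / j with hβ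
    set u := v + (α • c0 + β • d0) with hu
    have hv : v = u + (α • c0 + β • d0) := by rw [hu, add_assoc, add_self_vec, add_zero]
    have hau : f a u = 0 := by simp [hu, hav, hac0, had0]
    have hbu : f b u = 0 := by simp [hu, hbv, hbc0, hbd0]
    have hcu : f c0 u = 0 := by
      simp only [hu, sympForm_add_right, sympForm_smul_right, sympForm_self, mul_zero, zero_add,
        ← hj, hβ, div_mul_cancel₀ _ hj0, CharTwo.add_self_eq_zero]
    have hdu : f d0 u = 0 := by
      simp only [hu, sympForm_add_right, sympForm_smul_right, sympForm_self, mul_zero, add_zero,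
        hdc, hα, div_mul_cancel₀ _ hj0, CharTwo.add_self_eq_zero]
    clear_value u α β c0 d0
    rw [hv, hC.qf_add hb hbu (by simp [hbc0, hbd0]), hC.qf_add ha hau (by simp [hac0, had0]),
      hC.qf_add hb (by simp [hbc0]) (by simp [hbd0]), hC.qf_add ha (by simp [hac0]) (by simp [had0]),
      hAdj b c0 hb hc0 hbc0, hAdj b d0 hb hd0 hbd0, hAdj a c0 ha hc0 hac0, hAdj a d0 ha hd0 had0,
      hperp u hau hbu hcu hdu]
  · intro t ht
    have h1 : f c0 a = 0 := by rw [form_comm]; exact hac0
    have h2 : f c0 b = 0 := by rw [form_comm]; exact hbc0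
    have h := hAdj c0 _ hc0 ht (by simp [h1, h2]) 1
    rw [one_smul, hC.qf_add hc0 h2 (by simp [h1]), ← one_smul F b, hAdj c0 b hc0 hb h2,
      hAdj c0 a hc0 ha h1, one_smul, sympForm_smul_right, form_comm b a, hab, mul_one, zero_add,
      zero_add] at h
    exact h

end Cfsg.Agent.SympX
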