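import Cfsg.Agent.EqLemmas

/-!
# Elements of `Sp_4(2)` as numbers, and checking of subgroup certificates

A vector is a number below `16`, a matrix the number with hexadecimal digits the images of the basis.

* `Grp` : a subgroup with certificates; `Grp.ok` : the test
* `classify` : a closed set of codes above the first group is one of the groups or has the transvection
-/

set_option autoImplicit false

namespace Cfsg.Agent.SympX

/-- Test the numbers below `n` (written with primitive operations, for fast checking). -/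
def allK (n : ℕ) (P : ℕ → Bool) : Bool := Nat.rec true (fun i r => and (P i) r) n

/-- Some number below `n`. -/
def anyK (n : ℕ) (P : ℕ → Bool) : Bool := Nat.rec false (fun i r => or (P i) r) n

/-- Membership in a list of numbers. -/
def memK (c : ℕ) : List ℕ → Bool
  | [] => false
  | x :: l => or (Nat.beq c x) (memK c l)

theorem allK_spec {n : ℕ} {P : ℕ → Bool} (h : allK n P = true) {i : ℕ} (hi : i < n) :
    P i = true := by
  induction n with
  | zero => omega
  | succ n ih =>
    simp only [allK, Bool.and_eq_true] at h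
    rcases Nat.lt_succ_iff_lt_or_eq.1 hi with hlt | rfl
    · exact ih h.2 hlt
    · exact h.1

theorem anyK_spec {n : ℕ} {P : ℕ → Bool} (h : anyK n P = true) : ∃ i < n, P i = true := by
  induction n with
  | zero => simp [anyK] at h
  | succ n ih =>
    simp only [anyK, Bool.or_eq_true] at h
    rcases h with h | h
    · exact ⟨n, n.lt_succ_self, h⟩
    · obtain ⟨i, hi, hP⟩ := ih h
      exact ⟨i, hi.trans n.lt_succ_self, hP⟩

theorem memK_iff {c : ℕ} {l : List ℕ} : memK c l = true ↔ c ∈ l := by
  induction l with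
  | nil => simp [memK]
  | cons x l ih => simp [memK, ih]

/-- The digit. -/
def bitN (v i : ℕ) : ℕ := Nat.land (Nat.shiftRight v i) 1

/-- Apply a coded matrix to a vector. -/
def app (c v : ℕ) : ℕ :=
  Nat.xor (Nat.xor (Nat.mul (bitN v 0) (Nat.land c 15))
      (Nat.mul (bitN v 1) (Nat.land (Nat.shiftRight c 4) 15)))
    (Nat.xor (Nat.mul (bitN v 2) (Nat.land (Nat.shiftRight c 8) 15))
      (Nat.mul (bitN v 3) (Nat.land (Nat.shiftRight c 12) 15)))

/-- Code of four images. -/
def pack (i₀ i₁ i₂ i₃ : ℕ) : ℕ :=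
  Nat.add (Nat.add i₀ (Nat.mul 16 i₁)) (Nat.add (Nat.mul 256 i₂) (Nat.mul 4096 i₃))

/-- Product of codes. -/
def mulc (c d : ℕ) : ℕ :=
  pack (app c (Nat.land d 15)) (app c (Nat.land (Nat.shiftRight d 4) 15))
    (app c (Nat.land (Nat.shiftRight d 8) 15)) (app c (Nat.land (Nat.shiftRight d 12) 15))

/-- Code of the identity. -/
def oneC : ℕ := pack 1 2 4 8

/-- Code of the transvection with centre the first basis vector. -/
def tvC : ℕ := pack 1 3 4 8

/-- The form. -/
def fN (u v : ℕ) : ℕ :=
  Nat.xor (Nat.xor (Nat.land (bitN u 0) (bitN v 1)) (Nat.land (bitN u 1) (bitN v 0)))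
    (Nat.xor (Nat.land (bitN u 2) (bitN v 3)) (Nat.land (bitN u 3) (bitN v 2)))

/-- The condition on the images of a symplectic basis. -/
def SymCond (i₀ i₁ i₂ i₃ : ℕ) : Prop :=
  i₀ < 16 ∧ i₁ < 16 ∧ i₂ < 16 ∧ i₃ < 16 ∧ fN i₀ i₁ = 1 ∧ fN i₀ i₂ = 0 ∧ fN i₁ i₂ = 0 ∧
    fN i₀ i₃ = 0 ∧ fN i₁ i₃ = 0 ∧ fN i₂ i₃ = 1

/-- A code of a symplectic matrix. -/
def Sym (c : ℕ) : Prop := ∃ i₀ i₁ i₂ i₃, SymCond i₀ i₁ i₂ i₃ ∧ c = pack i₀ i₁ i₂ i₃

/-- The list of the symplectic codes. -/
def symEnum : List ℕ :=
  (List.range 16).flatMap fun i₀ =>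
    ((List.range 16).filter fun i₁ => Nat.beq (fN i₀ i₁) 1).flatMap fun i₁ =>
      ((List.range 16).filter fun i₂ => and (Nat.beq (fN i₀ i₂) 0) (Nat.beq (fN i₁ i₂) 0)).flatMap
        fun i₂ => ((List.range 16).filter fun i₃ =>
          and (Nat.beq (fN i₀ i₃) 0) (and (Nat.beq (fN i₁ i₃) 0) (Nat.beq (fN i₂ i₃) 1))).map
            fun i₃ => pack i₀ i₁ i₂ i₃

theorem mem_symEnum {c : ℕ} (hc : Sym c) : c ∈ symEnum := by
  obtain ⟨i₀, i₁, i₂, i₃, ⟨h0, h1, h2, h3, e1, e2, e3, e4, e5, e6⟩, rfl⟩ := hc
  simp only [symEnum, List.mem_flatMap, List.mem_map, List.mem_filter, List.mem_range]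
  exact ⟨i₀, h0, i₁, ⟨h1, by simp [e1]⟩, i₂, ⟨h2, by simp [e2, e3]⟩, i₃,
    ⟨h3, by simp [e4, e5, e6]⟩, rfl⟩

/-- What a certified group is. -/
inductive Kind where
  | red (S : ℕ)
  | orth (Q : ℕ) (ev : Bool)
  | iso (k : ℕ) (tab : List ℕ)

/-- A group with certificates. -/
structure Grp where
  els : List ℕ
  par : List (ℕ × ℕ)
  gens : List ℕ
  reps : List (ℕ × Option ℕ × List (List ℕ))
  cov : ℕ
  kind : Kind

/-- Evaluation of a word. -/
def evalW (gens : List ℕ) (w : List ℕ) : ℕ := w.foldr (fun j x => mulc (gens.getD j oneC) x) oneC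

/-- The elements are generated by the generators. -/
def Grp.chainOK (K : Grp) : Bool :=
  (K.els.getD 0 0 == oneC) && (K.par.length + 1 == K.els.length) &&
    (List.range K.par.length).all fun i =>
      decide ((K.par.getD i (0, 0)).2 ≤ i) &&
        (K.els.getD (i + 1) 0 ==
          mulc (K.gens.getD (K.par.getD i (0, 0)).1 oneC) (K.els.getD (K.par.getD i (0, 0)).2 0))

/-- One covering witness: `c` is in the group, or a double translate of `c` is a representative. -/
def Grp.covOne (K : Grp) (c n : ℕ) : Bool :=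
  cond (Nat.beq (Nat.land (Nat.shiftRight (Nat.shiftRight K.cov (Nat.mul 18 n)) 9) 511) 511)
    (Nat.beq (K.els.getD (Nat.land (Nat.shiftRight K.cov (Nat.mul 18 n)) 511) 0) c)
    (and (and (Nat.blt (Nat.land (Nat.shiftRight (Nat.shiftRight K.cov (Nat.mul 18 n)) 9) 511) K.els.length)
        (Nat.blt (Nat.land (Nat.shiftRight K.cov (Nat.mul 18 n)) 511) K.els.length))
      (memK (mulc (mulc (K.els.getD (Nat.land (Nat.shiftRight (Nat.shiftRight K.cov (Nat.mul 18 n)) 9) 511) 0) c)
        (K.els.getD (Nat.land (Nat.shiftRight K.cov (Nat.mul 18 n)) 511) 0)) (K.reps.map Prod.fst)))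

/-- All covering witnesses along a list. -/
def Grp.covList (K : Grp) : List ℕ → ℕ → Bool
  | [], _ => true
  | c :: l, n => and (K.covOne c n) (K.covList l (n + 1))

/-- The certificates of the minimal overgroups. -/
def Grp.stepOK (gs : List Grp) (codes : List ℕ) (i : ℕ) (K : Grp) : Bool :=
  (K.reps.all fun r =>
    match r.2.1 with
    | none => r.2.2.map (evalW (K.gens ++ [r.1])) == [tvC]
    | some j => decide (i < j) && decide (j < gs.length) &&
        (r.2.2.map (evalW (K.gens ++ [r.1])) == ((gs[j]?).map Grp.gens).getD [])) &&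
  K.covList codes 0

/-- Is the size of the image of `c - 1` a power of four. -/
def evenC (c : ℕ) : Bool :=
  memK (Nat.rec 0 (fun w r => Nat.add (cond (anyK 16 fun v => Nat.beq (Nat.xor (app c v) v) w) 1 0) r)
    16) [1, 4, 16]

/-- The value of a coded form. -/
def valC (Q v : ℕ) : ℕ := Nat.land (Nat.shiftRight Q v) 1

/-- The isometry test. -/
def presC (Q c : ℕ) : Bool := allK 16 fun v => Nat.beq (valC Q (app c v)) (valC Q v)

/-- The digit of a coded permutation. -/
def digit (p t : ℕ) : ℕ := Nat.land (Nat.shiftRight p (Nat.mul 3 t)) 7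

/-- Composition of coded permutations of `k` points. -/
def compC (k p q : ℕ) : ℕ :=
  Nat.rec 0 (fun t r => Nat.add (Nat.shiftLeft (digit p (digit q t)) (Nat.mul 3 t)) r) k

/-- Position in a list. -/
def idxK (c : ℕ) : List ℕ → ℕ
  | [] => 0
  | x :: l => cond (Nat.beq c x) 0 (Nat.succ (idxK c l))

/-- The permutation of an element. -/
def permC (K : Grp) (tab : List ℕ) (c : ℕ) : ℕ := tab.getD (idxK c K.els) 0

/-- The certificate of the kind. -/
def Grp.kindOK (codes : List ℕ) (K : Grp) : Bool :=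
  match K.kind with
  | .red S => and (and (Nat.beq (valC S 0) 1) (anyK 16 fun v => Nat.beq (valC S v) 0))
      (and (anyK 16 fun v => and (not (Nat.beq v 0)) (Nat.beq (valC S v) 1))
        (and (allK 16 fun u => allK 16 fun v =>
            or (Nat.beq (Nat.mul (valC S u) (valC S v)) 0) (Nat.beq (valC S (Nat.xor u v)) 1))
          (K.els.all fun c => allK 16 fun v =>
            or (Nat.beq (valC S v) 0) (Nat.beq (valC S (app c v)) 1))))
  | .orth Q ev => and (allK 16 fun u => allK 16 fun v =>
        Nat.beq (valC Q (Nat.xor u v)) (Nat.xor (Nat.xor (valC Q u) (valC Q v)) (fN u v)))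
      (codes.all fun c => cond (and (presC Q c) (or (not ev) (evenC c))) (memK c K.els)
        (not (memK c K.els)))
  | .iso k tab => and (or (and (Nat.beq k 6) (Nat.beq K.els.length 360))
        (and (Nat.beq k 5) (Nat.beq K.els.length 120)))
      (and (and (Nat.beq tab.length K.els.length) (and (decide K.els.Nodup) (decide tab.Nodup)))
        (and (and (tab.all fun p => and (Nat.blt p (8 ^ k)) (allK k fun t => Nat.blt (digit p t) k))
            (allK k fun t => Nat.beq (digit (permC K tab oneC) t) t))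
          (K.gens.all fun g => and (memK g K.els) ((K.els.zip tab).all fun x =>
            Nat.beq (permC K tab (mulc g x.1)) (compC k (permC K tab g) x.2)))))

/-- All tests of one group of a list. -/
def Grp.ok (gs : List Grp) (codes : List ℕ) (i : ℕ) (K : Grp) : Bool :=
  K.chainOK && K.stepOK gs codes i && K.kindOK codes

theorem covList_spec {K : Grp} {l : List ℕ} {n : ℕ} (h : K.covList l n = true) {c : ℕ}
    (hc : c ∈ l) : ∃ m, K.covOne c m = true := by
  induction l generalizing n with
  | nil => simp at hc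
  | cons x l ih =>
    simp only [Grp.covList, Bool.and_eq_true] at h
    rcases List.mem_cons.1 hc with rfl | hc
    · exact ⟨n, h.1⟩
    · exact ih h.2 hc

theorem getD_mem_of_blt {l : List ℕ} {i : ℕ} (h : Nat.blt i l.length = true) : l.getD i 0 ∈ l := by
  have h' : i < l.length := by simpa [Nat.blt_eq] using h
  rw [List.getD_eq_getElem _ _ h']
  exact List.getElem_mem h'

theorem covOne_spec {K : Grp} {c n : ℕ} (h : K.covOne c n = true) (h0 : c ≠ 0) :
    c ∈ K.els ∨ ∃ k₁ ∈ K.els, ∃ k₂ ∈ K.els, mulc (mulc k₁ c) k₂ ∈ K.reps.map Prod.fst := by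
  unfold Grp.covOne at h
  cases hb : Nat.beq (Nat.land (Nat.shiftRight (Nat.shiftRight K.cov (Nat.mul 18 n)) 9) 511) 511 with
  | true =>
    rw [hb] at h
    left
    have he := Nat.eq_of_beq_eq_true h
    rw [← he]
    refine getD_mem_of_blt ?_
    rw [Nat.blt_eq]
    by_contra hlt
    rw [List.getD_eq_default _ _ (by omega)] at he
    exact h0 he.symm
  | false =>
    rw [hb] at h
    simp only [cond_false, Bool.and_eq_true, memK_iff] at h
    exact .inr ⟨_, getD_mem_of_blt h.1.1, _, getD_mem_of_blt h.1.2, h.2⟩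

theorem pack_ne_zero {c : ℕ} (hc : Sym c) : c ≠ 0 := by
  obtain ⟨i₀, i₁, i₂, i₃, ⟨h0, -, -, -, e1, -⟩, rfl⟩ := hc
  intro h
  have h' : i₀ = 0 ∧ i₁ = 0 := by
    simp only [pack, Nat.add_eq, Nat.mul_eq] at h
    omega
  rw [h'.1, h'.2] at e1
  exact absurd e1 (by decide)

theorem chain_induction {K : Grp} (h : K.chainOK = true) {P : ℕ → Prop} (h1 : P oneC)
    (hm : ∀ g ∈ K.gens, ∀ x, P x → P (mulc g x))
    (h1' : ∀ x, P x → P (mulc oneC x)) {c : ℕ} (hc : c ∈ K.els) : P c := by
  simp only [Grp.chainOK, Bool.and_eq_true, beq_iff_eq, List.all_eq_true, List.mem_range,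
    decide_eq_true_eq] at h
  obtain ⟨⟨h0, hlen⟩, hstep⟩ := h
  have key : ∀ n, n < K.els.length → P (K.els.getD n 0) := by
    intro n
    induction n using Nat.strong_induction_on with
    | _ n ih =>
      intro hn
      match n with
      | 0 => rwa [h0]
      | i + 1 =>
        obtain ⟨hp, he⟩ := hstep i (by omega)
        rw [he]
        have hx := ih _ (by omega) (show (K.par.getD i (0, 0)).2 < K.els.length by omega)
        by_cases hj : (K.par.getD i (0, 0)).1 < K.gens.length
        · rw [List.getD_eq_getElem _ _ hj]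
          exact hm _ (List.getElem_mem hj) _ hx
        · rw [List.getD_eq_default _ _ (by omega)]
          exact h1' _ hx
  obtain ⟨n, hn, rfl⟩ := List.mem_iff_getElem.1 hc
  have := key n hn
  rwa [List.getD_eq_getElem _ _ hn] at this

theorem evalW_mem {M : ℕ → Prop} (h1 : M oneC) (hm : ∀ x y, M x → M y → M (mulc x y))
    {gens : List ℕ} (hg : ∀ g ∈ gens, M g) (w : List ℕ) : M (evalW gens w) := by
  induction w with
  | nil => exact h1
  | cons j w ih =>
    refine hm _ _ ?_ ih
    by_cases hj : j < gens.length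
    · rw [List.getD_eq_getElem _ _ hj]; exact hg _ (List.getElem_mem hj)
    · rw [List.getD_eq_default _ _ (by omega)]; exact h1

theorem classify {gs : List Grp} {codes : List ℕ} (hcodes : symEnum = codes)
    (hok : ∀ (i : ℕ) (K : Grp), gs[i]? = some K → K.ok gs codes i = true) {M : ℕ → Prop} (h1 : M oneC)
    (hm : ∀ x y, M x → M y → M (mulc x y)) (hsym : ∀ x, M x → Sym x) {K₀ : Grp}
    (h0 : gs[0]? = some K₀) (hX : ∀ g ∈ K₀.gens, M g) :
    M tvC ∨ ∃ K ∈ gs, K.chainOK = true ∧ K.kindOK codes = true ∧ ∀ c, M c ↔ c ∈ K.els := by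
  suffices key : ∀ n i K, gs[i]? = some K → gs.length - i ≤ n → (∀ g ∈ K.gens, M g) →
      M tvC ∨ ∃ K ∈ gs, K.chainOK = true ∧ K.kindOK codes = true ∧ ∀ c, M c ↔ c ∈ K.els from
    key _ 0 K₀ h0 le_rfl hX
  intro n
  induction n with
  | zero =>
    intro i K hi hn
    obtain ⟨hlt, -⟩ := List.getElem?_eq_some_iff.1 hi
    omega
  | succ n ih =>
    intro i K hi hn hK
    obtain ⟨hlt, -⟩ := List.getElem?_eq_some_iff.1 hi
    have hi' := hok i K hi
    simp only [Grp.ok, Bool.and_eq_true] at hi'
    obtain ⟨⟨hchain, hstep⟩, hkind⟩ := hi'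
    have hels : ∀ c ∈ K.els, M c := fun c hc =>
      chain_induction hchain (P := M) h1 (fun g hg x hx => hm g x (hK g hg) hx)
        (fun x hx => hm _ x h1 hx) hc
    by_cases hall : ∀ c, M c → c ∈ K.els
    · exact .inr ⟨K, List.mem_of_getElem? hi, hchain, hkind,
        fun c => ⟨hall c, hels c⟩⟩
    push Not at hall
    obtain ⟨c, hc, hcK⟩ := hall
    simp only [Grp.stepOK, Bool.and_eq_true, List.all_eq_true] at hstep
    obtain ⟨hreps, hcov⟩ := hstep
    obtain ⟨n', hn'⟩ := covList_spec hcov (hcodes ▸ mem_symEnum (hsym c hc))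
    obtain ⟨k₁, hk₁, k₂, hk₂, hx⟩ := (covOne_spec hn' (pack_ne_zero (hsym c hc))).resolve_left hcK
    obtain ⟨⟨r, o, ws⟩, hr, he⟩ := List.mem_map.1 hx
    simp only at he
    have hr' := hreps _ hr
    have hg : ∀ g ∈ K.gens ++ [r], M g := by
      intro g hg
      rcases List.mem_append.1 hg with h | h
      · exact hK g h
      · rw [List.mem_singleton.1 h, he]
        exact hm _ _ (hm _ _ (hels _ hk₁) hc) (hels _ hk₂)
    have hw : ∀ x ∈ ws.map (evalW (K.gens ++ [r])), M x := by
      intro x hx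
      obtain ⟨w, -, rfl⟩ := List.mem_map.1 hx
      exact evalW_mem h1 hm hg w
    match o with
    | none =>
      simp only [beq_iff_eq] at hr'
      exact .inl (hw _ (by rw [hr']; exact List.mem_singleton_self _))
    | some j =>
      simp only [Bool.and_eq_true, decide_eq_true_eq, beq_iff_eq] at hr'
      obtain ⟨⟨hij, hj⟩, he'⟩ := hr'
      rw [List.getElem?_eq_getElem hj] at he'
      exact ih j gs[j] (List.getElem?_eq_getElem hj) (by omega)
        (fun g hg => hw g (by rw [he']; exact hg))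

end Cfsg.Agent.SympX
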