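import Cfsg.Agent.Lib.SympX.Model

/-!
# Irreducible overgroups of the large unipotent subgroups in `Sp_4(2)`

* `exceptional` : everything, an orthogonal group or its even part, `A_6`, or `S_5`
-/

set_option autoImplicit false
set_option linter.unusedSectionVars false

namespace Cfsg.Agent.SympX

open Cfsg Cfsg.Agent.Linear Module
open QuadraticMap (polar)

theorem valC_le (Q v : ℕ) : valC Q v ≤ 1 := Nat.and_le_right

theorem bit_xor : ∀ p q : Fin 2, Nat.xor p.1 q.1 = (p.1 + q.1) % 2 := by decide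

theorem land_one : ∀ p q : Fin 2, Nat.land p.1 q.1 = p.1 * q.1 := by decide

theorem eq_of_digit {k p q : ℕ} (hp : p < 8 ^ k) (hq : q < 8 ^ k)
    (h : ∀ t < k, digit p t = digit q t) : p = q := by
  have hd : ∀ x t, digit x t = x / 8 ^ t % 8 := fun x t => by
    show Nat.land (Nat.shiftRight x (Nat.mul 3 t)) 7 = _
    rw [show (8 : ℕ) ^ t = 2 ^ (3 * t) by rw [pow_mul]; norm_num, ← Nat.shiftRight_eq_div_pow]
    exact Nat.and_two_pow_sub_one_eq_mod _ 3
  induction k generalizing p q with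
  | zero => simp at hp hq; omega
  | succ k ih =>
    rw [pow_succ] at hp hq
    have h0 := h 0 (by omega)
    simp only [hd, pow_zero, Nat.div_one] at h0
    have h1 : p / 8 = q / 8 := ih (Nat.div_lt_of_lt_mul (by linarith)) (Nat.div_lt_of_lt_mul (by linarith))
      fun t ht => by
        have := h (t + 1) (by omega)
        simp only [hd, pow_succ'] at this
        rw [hd, hd, Nat.div_div_eq_div_mul, Nat.div_div_eq_div_mul]
        exact this
    omega

theorem digit_compC {k : ℕ} (p q t : ℕ) (ht : t < k) :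
    digit (compC k p q) t = digit p (digit q t) := by
  have hd : ∀ x t, digit x t = x / 8 ^ t % 8 := fun x t => by
    show Nat.land (Nat.shiftRight x (Nat.mul 3 t)) 7 = _
    rw [show (8 : ℕ) ^ t = 2 ^ (3 * t) by rw [pow_mul]; norm_num, ← Nat.shiftRight_eq_div_pow]
    exact Nat.and_two_pow_sub_one_eq_mod _ 3
  have key : ∀ k, compC k p q < 8 ^ k ∧ ∀ t < k, compC k p q / 8 ^ t % 8 = digit p (digit q t) := by
    intro k
    induction k with
    | zero => exact ⟨by simp [compC], fun t ht => absurd ht (by omega)⟩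
    | succ k ih =>
      have e : compC (k + 1) p q = digit p (digit q k) * 8 ^ k + compC k p q := by
        show Nat.add (Nat.shiftLeft (digit p (digit q k)) (Nat.mul 3 k)) (compC k p q) = _
        rw [show (8 : ℕ) ^ k = 2 ^ (3 * k) by rw [pow_mul]; norm_num, ← Nat.shiftLeft_eq]
        rfl
      have hlt : digit p (digit q k) < 8 := by rw [hd]; omega
      refine ⟨?_, fun t ht => ?_⟩
      · rw [e, pow_succ]; nlinarith [ih.1, pow_pos (show 0 < 8 by norm_num) k]
      rw [e]
      rcases Nat.lt_succ_iff_lt_or_eq.1 ht with hlt' | rfl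
      · rw [← ih.2 t hlt', show 8 ^ k = 8 ^ t * (8 * 8 ^ (k - t - 1)) by
          rw [← mul_assoc, ← pow_succ, ← pow_add]; congr 1; omega, ← mul_assoc,
          mul_comm (digit p (digit q k)), mul_assoc, Nat.mul_add_div (pow_pos (by norm_num) t),
          ← mul_assoc, mul_comm (digit p (digit q k)) 8, mul_assoc, Nat.mul_add_mod]
      · rw [mul_comm, Nat.mul_add_div (pow_pos (by norm_num) t), Nat.div_eq_of_lt ih.1, add_zero,
          Nat.mod_eq_of_lt hlt]
  rw [hd]
  exact (key k).2 t ht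

variable {F : Type*} [Field F] [CharP F 2] [Fintype F]

local notation "V" => Fin 2 ⊕ Fin 2 → F
local notation "f" => Cfsg.sympForm 2 F

/-- A symplectic basis adapted to a point. -/
theorem exists_frame (h2 : Fintype.card F = 2) {L : Subgroup (Cfsg.spGL 2 F)} {a : V}
    (hA : IsPt L a) : ∃ (b c d : V) (ε : F), Frame a b c d ∧ uni a c ε ∈ L ∧ uni a d ε ∈ L := by
  obtain ⟨q, -, hq, hqL⟩ := exists_exact hA
  obtain ⟨b, hb⟩ := exists_sympForm_ne_zero hA.1
  have hab : f a b = 1 := (two_vals h2 _).resolve_left hb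
  obtain ⟨u, hu0, hau, hbu⟩ := exists_orth_two le_rfl a b
  obtain ⟨z, haz, hbz, hzu, -⟩ := exists_perp_two' hab hu0 hau hbu
  have huz : f u z = 1 := (two_vals h2 _).resolve_left (by rw [form_comm]; exact hzu)
  rcases two_vals h2 (q u) with hu | hu <;> rcases two_vals h2 (q z) with hz | hz
  · exact ⟨b, u, z, 0, ⟨hab, huz, hau, haz, hbu, hbz⟩, hu ▸ hqL u hau, hz ▸ hqL z haz⟩
  · refine ⟨b, u, u + z, 0, ⟨hab, by simp [huz], hau, by simp [hau, haz], hbu, by simp [hbu, hbz]⟩,
      hu ▸ hqL u hau, ?_⟩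
    have h := hqL (u + z) (by simp [hau, haz])
    rwa [hq u z hau haz, hu, hz, huz, zero_add, CharTwo.add_self_eq_zero] at h
  · refine ⟨b, z, u + z, 0, ⟨hab, by simp [form_comm z u, huz], haz, by simp [hau, haz], hbz,
      by simp [hbu, hbz]⟩, hz ▸ hqL z haz, ?_⟩
    have h := hqL (u + z) (by simp [hau, haz])
    rwa [hq u z hau haz, hu, hz, huz, add_zero, CharTwo.add_self_eq_zero] at h
  · exact ⟨b, u, z, 1, ⟨hab, huz, hau, haz, hbu, hbz⟩, hu ▸ hqL u hau, hz ▸ hqL z haz⟩
where
  exists_perp_two' {a b : V} (hab : f a b = 1) {u : V} (hu0 : u ≠ 0) (hau : f a u = 0)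
      (hbu : f b u = 0) : ∃ z : V, f a z = 0 ∧ f b z = 0 ∧ f z u ≠ 0 ∧ True := by
    have hba : f b a = 1 := by rw [form_comm]; exact hab
    obtain ⟨v, h1, -⟩ := exists_val_two hu0 hu0
    refine ⟨v + f b v • a + f a v • b, by simp [hab, CharTwo.add_self_eq_zero],
      by simp [hba, CharTwo.add_self_eq_zero], ?_, trivial⟩
    simpa [hau, hbu, form_comm v u] using h1

section Kinds

variable {a b c₀ d : Fin 2 ⊕ Fin 2 → F} (hF : Frame a b c₀ d) (h2 : Fintype.card F = 2)
  {L : Subgroup (Cfsg.spGL 2 F)} {codes : List ℕ} (hcodes : symEnum = codes) {K : Grp}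
  (hK : ∀ g, g ∈ L ↔ code a b c₀ d g ∈ K.els) (hok : K.kindOK codes = true)
include hF h2 hcodes hK hok

theorem kind_red {S : ℕ} (hk : K.kind = .red S) (hirr : Irred L) : False := by
  simp only [Grp.kindOK, hk, Bool.and_eq_true, Bool.or_eq_true, List.all_eq_true,
    Bool.not_eq_true'] at hok
  obtain ⟨⟨h0, hout⟩, hin, hxor, hinv⟩ := hok
  have hval : ∀ v, valC S v = 0 ∨ valC S v = 1 := fun v => by have := valC_le S v; omega
  have hxor' : ∀ u v, u < 16 → v < 16 → valC S u = 1 → valC S v = 1 →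
      valC S (Nat.xor u v) = 1 := by
    intro u v hu hv e1 e2
    have h := allK_spec (allK_spec hxor hu) hv
    simp only [Bool.or_eq_true] at h
    rcases h with h | h
    · have := Nat.eq_of_beq_eq_true h
      rw [e1, e2] at this
      exact absurd this (by decide)
    · exact Nat.eq_of_beq_eq_true h
  let W : Submodule F V :=
    { carrier := {v | valC S (ecd a b c₀ d v) = 1}
      add_mem' := fun {u v} hu hv => by
        show valC S (ecd a b c₀ d (u + v)) = 1
        rw [ecd_add hF h2]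
        exact hxor' _ _ (ecd_lt hF h2 u) (ecd_lt hF h2 v) hu hv
      zero_mem' := by
        show valC S (ecd a b c₀ d (0 : V)) = 1
        rw [ecd_zero hF h2]; exact Nat.eq_of_beq_eq_true h0
      smul_mem' := fun k v hv => by
        rcases two_vals h2 k with rfl | rfl
        · show valC S (ecd a b c₀ d ((0 : F) • v)) = 1
          rw [zero_smul, ecd_zero hF h2]; exact Nat.eq_of_beq_eq_true h0
        · rwa [one_smul] }
  rcases hirr W (fun g hg w hw => by
      show valC S (ecd a b c₀ d (g • w)) = 1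
      rw [← app_code hF h2]
      have h := allK_spec (hinv _ ((hK g).1 hg)) (ecd_lt hF h2 w)
      simp only [Bool.or_eq_true] at h
      rcases h with h | h
      · have := Nat.eq_of_beq_eq_true h
        rw [show valC S (ecd a b c₀ d w) = 1 from hw] at this
        exact absurd this (by decide)
      · exact Nat.eq_of_beq_eq_true h) with hW | hW
  · obtain ⟨n, hn, hn'⟩ := anyK_spec hin
    simp only [Bool.and_eq_true, Bool.not_eq_true'] at hn'
    obtain ⟨v, rfl⟩ := ecd_surj hF h2 hn
    have hv : v ∈ W := Nat.eq_of_beq_eq_true hn'.2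
    rw [hW, Submodule.mem_bot] at hv
    rw [hv, ecd_zero hF h2] at hn'
    exact absurd hn'.1 (by decide)
  · obtain ⟨n, hn, hn'⟩ := anyK_spec hout
    obtain ⟨v, rfl⟩ := ecd_surj hF h2 hn
    have hv : valC S (ecd a b c₀ d v) = 1 := (hW ▸ Submodule.mem_top : v ∈ W)
    rw [hv] at hn'
    exact absurd hn' (by decide)

theorem kind_orth {Qc : ℕ} {ev : Bool} (hk : K.kind = .orth Qc ev) :
    ∃ Q : QuadraticForm F V, (∀ x y, polar ⇑Q x y = f x y) ∧
      ((∀ g, g ∈ L ↔ ∀ x, Q (g • x) = Q x) ∨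
        (∀ g, g ∈ L ↔ (∀ x, Q (g • x) = Q x) ∧ Even ((g.1.1 - 1).rank))) := by
  simp only [Grp.kindOK, hk, Bool.and_eq_true, List.all_eq_true] at hok
  obtain ⟨hpol, hcov⟩ := hok
  let Qf : V → F := fun v => (valC Qc (ecd a b c₀ d v) : F)
  have hp : ∀ u v : V, Qf (u + v) = Qf u + Qf v + f u v := by
    intro u v
    have h := Nat.eq_of_beq_eq_true (allK_spec (allK_spec hpol (ecd_lt hF h2 u)) (ecd_lt hF h2 v))
    have hadd : ∀ p q, p ≤ 1 → q ≤ 1 → ((Nat.xor p q : ℕ) : F) = p + q := by
      intro p q hp hq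
      rw [bit_xor ⟨p, by omega⟩ ⟨q, by omega⟩]
      interval_cases p <;> interval_cases q <;> simp [CharTwo.add_self_eq_zero]
    have hx : ∀ p q, p ≤ 1 → q ≤ 1 → Nat.xor p q ≤ 1 := by
      intro p q hp hq
      rw [bit_xor ⟨p, by omega⟩ ⟨q, by omega⟩]; omega
    show (valC Qc (ecd a b c₀ d (u + v)) : F) = _
    rw [ecd_add hF h2, h, fN_ecd hF h2, hadd _ _ (hx _ _ (valC_le _ _) (valC_le _ _)) (bitF_le _),
      hadd _ _ (valC_le _ _) (valC_le _ _), cast_bitF h2]
  have hpolar : ∀ x y, polar Qf x y = f x y := fun x y => by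
    rw [QuadraticMap.polar, hp]; ring
  refine ⟨QuadraticMap.ofPolar Qf (fun k x => ?_) (fun x x' y => ?_) (fun k x y => ?_), hpolar, ?_⟩
  · have h0 := hp 0 0
    rw [add_zero, sympForm_zero_right, add_zero, CharTwo.add_self_eq_zero] at h0
    rcases two_vals h2 k with rfl | rfl
    · rw [zero_smul, h0, mul_zero, zero_smul]
    · rw [one_smul, one_mul, one_smul]
  · rw [hpolar, hpolar, hpolar, sympForm_add_left]
  · rw [hpolar, hpolar, sympForm_smul_left, smul_eq_mul]
  have hpres : ∀ g : Cfsg.spGL 2 F, presC Qc (code a b c₀ d g) = true ↔ ∀ x, Qf (g • x) = Qf x := by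
    intro g
    have hinj : ∀ p q : ℕ, p ≤ 1 → q ≤ 1 → (p : F) = q → p = q := by
      intro p q hp hq
      interval_cases p <;> interval_cases q <;> simp
    constructor
    · intro h x
      have := Nat.eq_of_beq_eq_true (allK_spec h (ecd_lt hF h2 x))
      rw [app_code hF h2] at this
      show (valC Qc _ : F) = valC Qc _
      rw [this]
    · intro h
      have key : ∀ (P : ℕ → Bool) (n : ℕ), (∀ i < n, P i = true) → allK n P = true := by
        intro P n hP
        induction n with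
        | zero => rfl
        | succ n ih =>
          simp only [allK, Bool.and_eq_true]
          exact ⟨hP n n.lt_succ_self, ih fun i hi => hP i (hi.trans n.lt_succ_self)⟩
      refine key _ 16 fun n hn => ?_
      obtain ⟨x, rfl⟩ := ecd_surj hF h2 hn
      rw [app_code hF h2, hinj _ _ (valC_le _ _) (valC_le _ _) (h x)]
      exact Nat.beq_refl _
  have hmem : ∀ g : Cfsg.spGL 2 F, g ∈ L ↔
      (presC Qc (code a b c₀ d g) && (!ev || evenC (code a b c₀ d g))) = true := by
    intro g
    have h := hcov _ (hcodes ▸ mem_symEnum (sym_code hF h2 g))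
    rw [hK]
    cases hb : (presC Qc (code a b c₀ d g) && (!ev || evenC (code a b c₀ d g))) with
    | true => rw [hb] at h; simp only [cond_true, memK_iff] at h; simp [h]
    | false =>
      rw [hb] at h
      simp only [cond_false, Bool.not_eq_true'] at h
      simp only [iff_false, Bool.false_eq_true]
      exact fun hg => by rw [memK_iff.2 hg] at h; exact Bool.noConfusion h
  cases ev with
  | false =>
    left
    intro g
    rw [hmem g]
    simpa using hpres g
  | true =>
    right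
    intro g
    rw [hmem g, Bool.and_eq_true, hpres g]
    simp only [Bool.not_true, Bool.false_or, evenC_code hF h2]
    rfl

theorem kind_iso (hrep : ∀ x ∈ K.els, ∃ g ∈ L, code a b c₀ d g = x) (hchain : K.chainOK = true) {k : ℕ} {tab : List ℕ} (hk : K.kind = .iso k tab) :
    Nonempty (↥L ≃* ↥(alternatingGroup (Fin 6))) ∨ Nonempty (↥L ≃* Equiv.Perm (Fin 5)) := by
  classical
  simp only [Grp.kindOK, hk, Bool.and_eq_true, Bool.or_eq_true, List.all_eq_true,
    decide_eq_true_eq, memK_iff] at hok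
  obtain ⟨hkl, ⟨hlen, hnd, hndt⟩, ⟨htab, hone⟩, hhom⟩ := hok
  have hlen' : tab.length = K.els.length := Nat.eq_of_beq_eq_true hlen
  have hidx : ∀ (c : ℕ) (l : List ℕ), c ∈ l → ∃ h : idxK c l < l.length, l[idxK c l] = c := by
    intro c l
    induction l with
    | nil => simp
    | cons x l ih =>
      intro hc
      cases hb : Nat.beq c x with
      | true => exact ⟨by simp [idxK, hb], by simp [idxK, hb, Nat.eq_of_beq_eq_true hb]⟩
      | false =>
        have hne : c ≠ x := fun h => by rw [h, Nat.beq_refl] at hb; exact Bool.noConfusion hb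
        obtain ⟨h, e⟩ := ih ((List.mem_cons.1 hc).resolve_left hne)
        exact ⟨by simp [idxK, hb, h], by simp [idxK, hb, e]⟩
  set P : Cfsg.spGL 2 F → ℕ := fun g => permC K tab (code a b c₀ d g) with hP
  have hPtab : ∀ g ∈ L, ∀ h : idxK (code a b c₀ d g) K.els < tab.length,
      P g = tab[idxK (code a b c₀ d g) K.els] := fun g _ h => by
    simp only [hP, permC, List.getD_eq_getElem _ _ h]
  have hPmem : ∀ g ∈ L, P g ∈ tab := fun g hg => by
    obtain ⟨h, -⟩ := hidx _ _ ((hK g).1 hg)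
    rw [hPtab g hg (hlen' ▸ h)]
    exact List.getElem_mem _
  have hlt : ∀ g ∈ L, ∀ t < k, digit (P g) t < k := fun g hg t ht => by
    have h := allK_spec (htab _ (hPmem g hg)).2 ht
    simpa [Nat.blt_eq] using h
  have hzip : ∀ g ∈ L, (code a b c₀ d g, P g) ∈ K.els.zip tab := fun g hg => by
    obtain ⟨h, e⟩ := hidx _ _ ((hK g).1 hg)
    rw [List.mem_iff_getElem]
    refine ⟨idxK (code a b c₀ d g) K.els, by simp [h, hlen'], ?_⟩
    rw [List.getElem_zip, e, hPtab g hg (hlen' ▸ h)]
  have hP1 : ∀ t < k, digit (P 1) t = t := fun t ht => by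
    show digit (permC K tab (code a b c₀ d (1 : Cfsg.spGL 2 F))) t = t
    rw [code_one hF h2]
    exact Nat.eq_of_beq_eq_true (allK_spec hone ht)
  have hmul : ∀ g ∈ L, ∀ h ∈ L, ∀ t < k, digit (P (g * h)) t = digit (P g) (digit (P h) t) := by
    let Q : ℕ → Prop := fun c => ∃ g ∈ L, code a b c₀ d g = c ∧
      ∀ h ∈ L, ∀ t < k, digit (P (g * h)) t = digit (P g) (digit (P h) t)
    have hQ : ∀ c' ∈ K.els, Q c' := fun c' hc' => by
      refine chain_induction hchain (P := Q) ⟨1, L.one_mem, code_one hF h2, fun h hh t ht => by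
        rw [one_mul, hP1 _ (hlt h hh t ht)]⟩ (fun x hx y hy => ?_) (fun y hy => ?_) hc'
      · obtain ⟨hxe, hxall⟩ := hhom x hx
        obtain ⟨gx, hgx, rfl⟩ := hrep _ hxe
        obtain ⟨gy, hgy, rfl, hy'⟩ := hy
        have hstep : ∀ h ∈ L, ∀ t < k, digit (P (gx * h)) t = digit (P gx) (digit (P h) t) := by
          intro h hh t ht
          have e := Nat.eq_of_beq_eq_true (hxall _ (hzip h hh))
          simp only [← code_mul hF h2] at e
          show digit (permC K tab (code a b c₀ d (gx * h))) t = _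
          rw [e]
          exact digit_compC _ _ t ht
        refine ⟨gx * gy, L.mul_mem hgx hgy, code_mul hF h2 gx gy, fun h hh t ht => ?_⟩
        rw [mul_assoc, hstep _ (L.mul_mem hgy hh) t ht, hy' h hh t ht,
          hstep gy hgy _ (hlt h hh t ht)]
      · obtain ⟨gy, hgy, rfl, hy'⟩ := hy
        refine ⟨gy, hgy, ?_, hy'⟩
        rw [← code_one hF h2, ← code_mul hF h2, one_mul]
    intro g hg
    obtain ⟨g', -, he, hg'⟩ := hQ _ ((hK g).1 hg)
    exact code_inj hF h2 he ▸ hg'
  let D : L → Fin k → Fin k := fun g t => ⟨digit (P g.1) t.1, hlt g.1 g.2 t.1 t.2⟩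
  have hD : ∀ g h : L, ∀ t, D (g * h) t = D g (D h t) := fun g h t =>
    Fin.ext (hmul g.1 g.2 h.1 h.2 t.1 t.2)
  have hD1 : ∀ t, D 1 t = t := fun t => Fin.ext (hP1 t.1 t.2)
  let φ : L →* Equiv.Perm (Fin k) :=
    { toFun := fun g =>
        { toFun := D g
          invFun := D g⁻¹
          left_inv := fun t => by rw [← hD, inv_mul_cancel, hD1]
          right_inv := fun t => by rw [← hD, mul_inv_cancel, hD1] }
      map_one' := Equiv.ext hD1
      map_mul' := fun g h => Equiv.ext (hD g h) }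
  have hinj : Function.Injective φ := by
    intro g h e
    have e' : P g.1 = P h.1 := eq_of_digit (by simpa [Nat.blt_eq] using (htab _ (hPmem _ g.2)).1)
      (by simpa [Nat.blt_eq] using (htab _ (hPmem _ h.2)).1)
      fun t ht => congrArg Fin.val (Equiv.congr_fun e ⟨t, ht⟩)
    obtain ⟨hg, eg⟩ := hidx _ _ ((hK g.1).1 g.2)
    obtain ⟨hh, eh⟩ := hidx _ _ ((hK h.1).1 h.2)
    rw [hPtab g.1 g.2 (hlen' ▸ hg), hPtab h.1 h.2 (hlen' ▸ hh), hndt.getElem_inj_iff] at e'
    refine Subtype.ext (code_inj hF h2 ?_)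
    rw [← eg, ← eh]
    simp only [e']
  have hcard : Nat.card L = K.els.length := by
    have hbij : Function.Bijective
        fun g : L => (⟨code a b c₀ d g.1, List.mem_toFinset.2 ((hK g.1).1 g.2)⟩ : K.els.toFinset) := by
      refine ⟨fun g h e => Subtype.ext (code_inj hF h2 (congrArg Subtype.val e)), fun x => ?_⟩
      obtain ⟨g, hg, e⟩ := hrep x.1 (List.mem_toFinset.1 x.2)
      exact ⟨⟨g, hg⟩, Subtype.ext e⟩
    rw [Nat.card_eq_of_bijective _ hbij, Nat.card_eq_fintype_card, Fintype.card_coe,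
      List.toFinset_card_of_nodup hnd]
  rcases hkl with ⟨hk6, hl⟩ | ⟨hk5, hl⟩
  · left
    obtain rfl : k = 6 := Nat.eq_of_beq_eq_true hk6
    have hr : Nat.card φ.range = 360 := by
      rw [← Nat.card_congr (MonoidHom.ofInjective hinj).toEquiv, hcard, Nat.eq_of_beq_eq_true hl]
    have hi := φ.range.index_mul_card
    rw [hr, Nat.card_eq_fintype_card, Fintype.card_perm, Fintype.card_fin] at hi
    have h6 : Nat.factorial 6 = 720 := rfl
    rw [h6] at hi
    exact ⟨(MonoidHom.ofInjective hinj).trans (MulEquiv.subgroupCongr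
      (Equiv.Perm.eq_alternatingGroup_of_index_eq_two (by omega)))⟩
  · right
    obtain rfl : k = 5 := Nat.eq_of_beq_eq_true hk5
    exact ⟨MulEquiv.ofBijective φ ((Nat.bijective_iff_injective_and_card φ).2 ⟨hinj, by
      rw [hcard, Nat.eq_of_beq_eq_true hl, Nat.card_eq_fintype_card, Fintype.card_perm,
        Fintype.card_fin]; rfl⟩)⟩

end Kinds

/-- The irreducible overgroups in `Sp_4(2)`. -/
theorem exceptional (h2 : Fintype.card F = 2) {L : Subgroup (Cfsg.spGL 2 F)} (hirr : Irred L)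
    {a : V} (hA : IsPt L a) :
    L = ⊤ ∨ (∃ Q : QuadraticForm F V, (∀ x y, polar ⇑Q x y = f x y) ∧
      ((∀ g, g ∈ L ↔ ∀ x, Q (g • x) = Q x) ∨
        (∀ g, g ∈ L ↔ (∀ x, Q (g • x) = Q x) ∧ Even ((g.1.1 - 1).rank)))) ∨
      Nonempty (↥L ≃* ↥(alternatingGroup (Fin 6))) ∨ Nonempty (↥L ≃* Equiv.Perm (Fin 5)) := by
  obtain ⟨b, c₀, d, ε, hF, hc, hd⟩ := exists_frame h2 hA
  set M : ℕ → Prop := fun x => ∃ g ∈ L, code a b c₀ d g = x with hM
  have h1 : M oneC := ⟨1, L.one_mem, code_one hF h2⟩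
  have hm : ∀ x y, M x → M y → M (mulc x y) := by
    rintro _ _ ⟨g, hg, rfl⟩ ⟨h, hh, rfl⟩
    exact ⟨g * h, L.mul_mem hg hh, code_mul hF h2 g h⟩
  have hsym : ∀ x, M x → Sym x := by rintro _ ⟨g, -, rfl⟩; exact sym_code hF h2 g
  have hε : bitF ε = 0 ∨ bitF ε = 1 := by have := bitF_le ε; omega
  have mc : M (pack 1 (Nat.xor 6 (bitF ε)) 4 9) := ⟨_, hc, code_uni_c hF h2 ε hε⟩
  have md : M (pack 1 (Nat.xor 10 (bitF ε)) 5 8) := ⟨_, hd, code_uni_d hF h2 ε hε⟩
  have main : ∀ (gs : List Grp) (K₀ : Grp),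
      (∀ (i : ℕ) (K : Grp), gs[i]? = some K → K.ok gs symCodes i = true) → gs[0]? = some K₀ →
      (∀ g ∈ K₀.gens, M g) → _ := fun gs K₀ hok h0 hX =>
    classify symEnum_eq hok h1 hm hsym h0 hX
  rcases hε with he | he <;> rw [he] at mc md
  · rcases main plusGroups plusGrp0 plusGroups_ok rfl (by
        intro g hg
        simp only [plusGrp0, List.mem_cons, List.not_mem_nil, or_false] at hg
        rcases hg with rfl | rfl
        · exact mc
        · exact md) with ⟨g, hg, e⟩ | ⟨K, -, hchain, hkind, hK⟩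
    · rw [← code_tv hF h2] at e
      exact .inl (eq_top_of_transvection le_rfl hirr hA one_ne_zero (code_inj hF h2 e ▸ hg))
    · exact finishKind hF h2 hirr hchain hkind hK
  · rcases main minusGroups minusGrp0 minusGroups_ok rfl (by
        intro g hg
        simp only [minusGrp0, List.mem_cons, List.not_mem_nil, or_false] at hg
        rcases hg with rfl | rfl
        · exact mc
        · exact md) with ⟨g, hg, e⟩ | ⟨K, -, hchain, hkind, hK⟩
    · rw [← code_tv hF h2] at e
      exact .inl (eq_top_of_transvection le_rfl hirr hA one_ne_zero (code_inj hF h2 e ▸ hg))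
    · exact finishKind hF h2 hirr hchain hkind hK
where
  finishKind {L : Subgroup (Cfsg.spGL 2 F)} {a b c₀ d : V} (hF : Frame a b c₀ d)
      (h2 : Fintype.card F = 2) (hirr : Irred L) {K : Grp} (hchain : K.chainOK = true)
      (hkind : K.kindOK symCodes = true)
      (hK : ∀ x, (∃ g ∈ L, code a b c₀ d g = x) ↔ x ∈ K.els) :
      L = ⊤ ∨ (∃ Q : QuadraticForm F V, (∀ x y, polar ⇑Q x y = f x y) ∧
      ((∀ g, g ∈ L ↔ ∀ x, Q (g • x) = Q x) ∨
        (∀ g, g ∈ L ↔ (∀ x, Q (g • x) = Q x) ∧ Even ((g.1.1 - 1).rank)))) ∨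
      Nonempty (↥L ≃* ↥(alternatingGroup (Fin 6))) ∨ Nonempty (↥L ≃* Equiv.Perm (Fin 5)) := by
    have hK' : ∀ g, g ∈ L ↔ code a b c₀ d g ∈ K.els := fun g =>
      ⟨fun hg => (hK _).1 ⟨g, hg, rfl⟩, fun h => by
        obtain ⟨g', hg', e⟩ := (hK _).2 h
        exact code_inj hF h2 e ▸ hg'⟩
    cases hk : K.kind with
    | red S => exact (kind_red hF h2 symEnum_eq hK' hkind hk hirr).elim
    | orth Qc ev => exact .inr (.inl (kind_orth hF h2 symEnum_eq hK' hkind hk))
    | iso k tab =>
      exact .inr (.inr (kind_iso hF h2 symEnum_eq hK' hkind (fun x hx => (hK x).2 hx) hchain hk))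

end Cfsg.Agent.SympX
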