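import Cfsg.Agent.Lib.SympX.Points
import Cfsg.Agent.Lib.PReduced.Basic
import Mathlib.GroupTheory.PGroup

/-!
# The unipotent radical of a point stabiliser

* `core_eq_uni` : elements of `O_2` of the stabiliser of `a` are the elements `uni a v l`
* `isPt_of_card` : a transvection-free subgroup of order `q^(2m-2)` of `O_2` makes `a` a point
-/

set_option autoImplicit false
set_option linter.unusedSectionVars false

namespace Cfsg.Agent.SympX

open Cfsg Cfsg.Agent.Linear Module

variable {F : Type*} [Field F] [CharP F 2] [Fintype F] {m : ℕ}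

local notation "V" => Fin m ⊕ Fin m → F
local notation "f" => Cfsg.sympForm m F

/-- Multiples of `a`. -/
def lineOf (a : Fin m ⊕ Fin m → F) (x : Fin m ⊕ Fin m → F) : Prop := ∃ k : F, x = k • a

theorem exists_moved_in_stab {a w w' : V} (ha : a ≠ 0) (haw : f a w = 0) (haw' : f a w' = 0)
    (hw : ¬ lineOf a w) (hw' : ¬ lineOf a w') :
    ∃ g : Cfsg.spGL m F, g • a = a ∧ g • w = w' := by
  have step : ∀ x y : V, f a x = 0 → f a y = 0 → f x y ≠ 0 →
      ∃ g : Cfsg.spGL m F, g • a = a ∧ g • x = y := by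
    intro x y hx hy hxy
    refine ⟨spTv (x + y) (f x y)⁻¹, ?_, ?_⟩
    · simp [spTv_smul, hx, hy]
    · rw [spTv_smul, sympForm_add_right, sympForm_self, zero_add, inv_mul_cancel₀ hxy, one_smul,
        ← add_assoc, add_self_vec, zero_add]
  have hw0 : ∀ k : F, w ≠ k • a := fun k h => hw ⟨k, h⟩
  by_cases h : f w w' = 0
  swap
  · exact step w w' haw haw' h
  obtain ⟨z, hza, hzw, hzw'⟩ : ∃ z, f a z = 0 ∧ f w z ≠ 0 ∧ f w' z ≠ 0 := by
    by_cases hs : ∀ k l : F, w' ≠ k • a + l • w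
    · obtain ⟨z, h1, h2, h3⟩ := exists_val_triple (indep_triple ha hw0 hs) 0 1 1
      exact ⟨z, h1, by rw [h2]; exact one_ne_zero, by rw [h3]; exact one_ne_zero⟩
    · push Not at hs
      obtain ⟨k, l, rfl⟩ := hs
      have hl : l ≠ 0 := fun h0 => hw' ⟨k, by rw [h0, zero_smul, add_zero]⟩
      obtain ⟨z, h1, h2⟩ := exists_val_pair (indep_pair ha hw0) 0 1
      exact ⟨z, h1, by rw [h2]; exact one_ne_zero, by simp [h1, h2, hl]⟩
  obtain ⟨g, hga, hgw⟩ := step w z haw hza hzw
  obtain ⟨g', hga', hgz⟩ := step z w' hza haw' (by rw [form_comm]; exact hzw')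
  exact ⟨g' * g, by rw [mul_smul, hga, hga'], by rw [mul_smul, hgw, hgz]⟩

/-- A normal two-subgroup of the stabiliser of `a` acts trivially on `a⊥/a`. -/
theorem trivial_on_perp (hm : 2 ≤ m) {a : V} (ha : a ≠ 0) (H P : Subgroup (Cfsg.spGL m F))
    (hH : ∀ g, g ∈ H ↔ g • a = a) (hP : P ≤ H) (hn : ∀ h ∈ H, ∀ p ∈ P, h * p * h⁻¹ ∈ P)
    (h2 : IsPGroup 2 ↥P) {p : Cfsg.spGL m F} (hp : p ∈ P) {w : V} (haw : f a w = 0) :
    lineOf a (p • w + w) := by
  classical
  obtain ⟨b, hb⟩ := exists_sympForm_ne_zero ha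
  obtain ⟨b, hab⟩ : ∃ b, f a b = 1 := ⟨(f a b)⁻¹ • b, by rw [sympForm_smul_right, inv_mul_cancel₀ hb]⟩
  have hba : f b a = 1 := by rw [form_comm, hab]
  let W0 := {x : V // f a x = 0 ∧ f b x = 0}
  have hfix : ∀ g : P, (g : Cfsg.spGL m F) • a = a := fun g => (hH _).1 (hP g.2)
  have hperp : ∀ (g : P) (x : V), f a x = 0 → f a ((g : Cfsg.spGL m F) • x) = 0 := fun g x hx => by
    have := sympForm_smul_smul (g : Cfsg.spGL m F) a x
    rwa [hfix g, hx] at this
  let π : V → V := fun x => x + f b x • a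
  have hπ : ∀ x, f a x = 0 → f a (π x) = 0 ∧ f b (π x) = 0 := fun x hx =>
    ⟨by simp [π, hx], by simp [π, hba, CharTwo.add_self_eq_zero]⟩
  let smul0 : P → W0 → W0 := fun g x => ⟨π ((g : Cfsg.spGL m F) • x.1), hπ _ (hperp g _ x.2.1)⟩
  let _ : MulAction P W0 :=
    { smul := smul0
      one_smul := fun x => Subtype.ext (by
        show π ((1 : Cfsg.spGL m F) • x.1) = x.1
        simp [π, x.2.2])
      mul_smul := fun g h x => Subtype.ext (by
        show π (((g : Cfsg.spGL m F) * (h : Cfsg.spGL m F)) • x.1) =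
          π ((g : Cfsg.spGL m F) • π ((h : Cfsg.spGL m F) • x.1))
        simp only [π, smul_add, mul_smul, smul_comm (g : Cfsg.spGL m F), hfix g, sympForm_add_right,
          sympForm_smul_right, hba, mul_one, add_smul]
        ext i
        simp only [Pi.add_apply, Pi.smul_apply, smul_eq_mul]
        linear_combination -(f b ((h : Cfsg.spGL m F) • x.1) * a i) *
          (CharTwo.two_eq_zero (R := F))) }
  obtain ⟨w₀, hw₀, hw₀fix⟩ : ∃ w₀ : W0, w₀.1 ≠ 0 ∧ ∀ g : P, g • w₀ = w₀ := by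
    haveI : Fact (Nat.Prime 2) := ⟨Nat.prime_two⟩
    obtain ⟨u, hu0, hau, hbu⟩ := exists_orth_two hm a b
    let K : Submodule F V :=
      { carrier := {x | f a x = 0 ∧ f b x = 0}
        add_mem' := fun hx hy => ⟨by simp [hx.1, hy.1], by simp [hx.2, hy.2]⟩
        zero_mem' := ⟨by simp, by simp⟩
        smul_mem' := fun c x hx => ⟨by simp [hx.1], by simp [hx.2]⟩ }
    have hdvd : 2 ∣ Nat.card W0 := by
      have h1 : Nat.card W0 = Fintype.card F ^ finrank F K := by
        rw [← Nat.card_eq_fintype_card, ← Module.natCard_eq_pow_finrank]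
        rfl
      rw [h1]
      refine dvd_pow ?_ ?_
      · obtain ⟨n, hn, hc⟩ := FiniteField.card F 2
        rw [hc]; exact dvd_pow_self _ n.ne_zero
      · exact fun h0 => hu0 ((Submodule.eq_bot_iff _).1 (Submodule.finrank_eq_zero.1 h0) u ⟨hau, hbu⟩)
    let z : W0 := ⟨0, by simp, by simp⟩
    have hz : z ∈ MulAction.fixedPoints P W0 := fun g => Subtype.ext (by
      show π ((g : Cfsg.spGL m F) • (0 : V)) = 0
      simp [π])
    obtain ⟨y, hy, hne⟩ := h2.exists_fixed_point_of_prime_dvd_card_of_fixed_point W0 hdvd hz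
    exact ⟨y, fun h => hne (Subtype.ext h.symm), hy⟩
  have hgood : ∀ g : P, lineOf a ((g : Cfsg.spGL m F) • w₀.1 + w₀.1) := fun g => by
    have h := congrArg Subtype.val (hw₀fix g)
    change (g : Cfsg.spGL m F) • w₀.1 + f b ((g : Cfsg.spGL m F) • w₀.1) • a = w₀.1 at h
    refine ⟨f b ((g : Cfsg.spGL m F) • w₀.1), ?_⟩
    conv_lhs => arg 2; rw [← h]
    rw [← add_assoc, add_self_vec, zero_add]
  have hw₀line : ¬ lineOf a w₀.1 := by
    rintro ⟨k, hk⟩
    have h2 := w₀.2.2
    rw [hk, sympForm_smul_right, hba, mul_one] at h2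
    exact hw₀ (by rw [hk, h2, zero_smul])
  by_cases hw : lineOf a w
  · obtain ⟨k, rfl⟩ := hw
    refine ⟨0, ?_⟩
    rw [smul_comm, (hH p).1 (hP hp), add_self_vec, zero_smul]
  obtain ⟨g, hga, hgw⟩ := exists_moved_in_stab ha haw w₀.2.1 hw hw₀line
  obtain ⟨k, hk⟩ := hgood ⟨g * p * g⁻¹, hn g ((hH g).2 hga) p hp⟩
  refine ⟨k, ?_⟩
  have h := congrArg (fun x => g⁻¹ • x) hk
  simp only [smul_add, mul_smul, inv_smul_smul, ← hgw, smul_comm g⁻¹ k] at h
  rw [h]
  congr 1
  rw [inv_smul_eq_iff, hga]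

/-- The elements of `O_2` of the stabiliser. -/
theorem core_eq_uni (hm : 2 ≤ m) {a b : V} (ha : a ≠ 0) (hab : f a b = 1)
    (H P : Subgroup (Cfsg.spGL m F))
    (hH : ∀ g, g ∈ H ↔ g • a = a) (hP : P ≤ H) (hn : ∀ h ∈ H, ∀ p ∈ P, h * p * h⁻¹ ∈ P)
    (h2 : IsPGroup 2 ↥P) {p : Cfsg.spGL m F} (hp : p ∈ P) :
    ∃ v l, f a v = 0 ∧ f b v = 0 ∧ p = uni a v l := by
  have hba : f b a = 1 := by rw [form_comm, hab]
  have hpa : p • a = a := (hH p).1 (hP hp)
  set v₀ := p • b + b with hv₀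
  have hav₀ : f a v₀ = 0 := by
    have := sympForm_smul_smul p a b
    rw [hpa] at this
    rw [hv₀, sympForm_add_right, this, CharTwo.add_self_eq_zero]
  clear_value v₀
  refine ⟨v₀ + f b v₀ • a, f b v₀, by simp [hav₀], by simp [hba, CharTwo.add_self_eq_zero],
    spGL_ext fun x => ?_⟩
  have hav : f a (v₀ + f b v₀ • a) = 0 := by simp [hav₀]
  set u := x + f a x • b with hu
  have hau : f a u = 0 := by simp [hu, hab, CharTwo.add_self_eq_zero]
  have hx : x = u + f a x • b := by rw [hu, add_assoc, add_self_vec, add_zero]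
  obtain ⟨φ, hφ⟩ := trivial_on_perp hm ha H P hH hP hn h2 hp hau
  have hpu : p • u = u + φ • a := by rw [← hφ, ← add_assoc, add_comm u, add_assoc, add_self_vec, add_zero]
  have hpb : p • b = b + v₀ := by rw [hv₀, add_comm (p • b), ← add_assoc, add_self_vec, zero_add]
  clear_value u
  have hφ' : φ = f u v₀ := by
    have := sympForm_smul_smul p u b
    rw [hpu, hpb, sympForm_add_left, sympForm_add_right, sympForm_add_right, sympForm_smul_left,
      sympForm_smul_left, hab, hav₀] at this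
    linear_combination this - f u v₀ * (CharTwo.two_eq_zero (R := F))
  conv_lhs => rw [hx, smul_add, smul_comm p, hpu, hpb, hφ']
  rw [uni_smul hav, sympForm_add_right, sympForm_smul_right]
  have e1 : f x a = f a x := form_comm x a
  have e2 : f u v₀ = f x v₀ + f a x * f b v₀ := by rw [hu]; simp
  rw [e1, e2, hu]
  ext i
  simp only [Pi.add_apply, Pi.smul_apply, smul_eq_mul]
  linear_combination (f a x * b i - f a x * f b v₀ * a i) * (CharTwo.two_eq_zero (R := F))

/-- A transvection-free subgroup of full order of `O_2` of the stabiliser makes a point. -/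
theorem isPt_of_card (hm : 2 ≤ m) {a : V} (ha : a ≠ 0) (H P X : Subgroup (Cfsg.spGL m F))
    (hH : ∀ g, g ∈ H ↔ g • a = a) (hP : P ≤ H) (hn : ∀ h ∈ H, ∀ p ∈ P, h * p * h⁻¹ ∈ P)
    (h2 : IsPGroup 2 ↥P) (hX : X ≤ P) (hcard : Nat.card X = Fintype.card F ^ (2 * m - 2))
    (hntv : ∀ t : F, spTv a t ∈ X → t = 0) {L : Subgroup (Cfsg.spGL m F)} (hXL : X ≤ L) :
    IsPt L a := by
  classical
  obtain ⟨b, hb⟩ := exists_sympForm_ne_zero ha
  obtain ⟨b, hab⟩ : ∃ b, f a b = 1 := ⟨(f a b)⁻¹ • b, by rw [sympForm_smul_right, inv_mul_cancel₀ hb]⟩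
  have hba : f b a = 1 := by rw [form_comm, hab]
  let B : V →ₗ[F] F × F :=
    { toFun := fun v => (f a v, f b v)
      map_add' := fun v w => by simp
      map_smul' := fun c v => by simp }
  have hsurj : LinearMap.range B = ⊤ := by
    refine LinearMap.range_eq_top.2 fun st => ⟨st.2 • a + st.1 • b, ?_⟩
    simp [B, hab, hba]
  have hker : finrank F (LinearMap.ker B) = 2 * m - 2 := by
    have h := LinearMap.finrank_range_add_finrank_ker B
    rw [hsurj, finrank_top] at h
    simp at h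
    omega
  choose v l hv using fun x : X => core_eq_uni hm ha hab H P hH hP hn h2 (hX x.2)
  let g : X → LinearMap.ker B := fun x => ⟨v x, by simp [B, (hv x).1, (hv x).2.1]⟩
  have hinj : Function.Injective g := by
    intro x y e
    have e' : v x = v y := congrArg Subtype.val e
    have hm' := X.mul_mem x.2 y.2
    rw [(hv x).2.2, (hv y).2.2, e', uni_mul (hv y).1 (hv y).1, sympForm_self, add_zero,
      add_self_vec, uni_zero] at hm'
    exact Subtype.ext (by rw [(hv x).2.2, (hv y).2.2, e', CharTwo.add_eq_zero.1 (hntv _ hm')])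
  have hbij : Function.Bijective g := by
    refine ⟨hinj, ?_⟩
    have : Fintype.card X = Fintype.card (LinearMap.ker B) := by
      rw [← Nat.card_eq_fintype_card, ← Nat.card_eq_fintype_card, hcard,
        Module.natCard_eq_pow_finrank (K := F), Nat.card_eq_fintype_card, hker]
    exact ((Fintype.bijective_iff_injective_and_card g).2 ⟨hinj, this⟩).2
  refine ⟨ha, fun u hu => ?_⟩
  obtain ⟨x, hx⟩ := hbij.2 ⟨u + f b u • a, by simp [B, hu, hba, CharTwo.add_self_eq_zero]⟩
  refine ⟨l x, hXL ?_⟩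
  have e : v x = u + f b u • a := congrArg Subtype.val hx
  rw [← uni_add_smul hu (f b u), ← e, ← (hv x).2.2]
  exact x.2

end Cfsg.Agent.SympX
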