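import Cfsg.Agent.Lib.SympX.Points
import Cfsg.Agent.Lib.SympX.CheckMinus
import Cfsg.Agent.Lib.SympX.CheckPlus
import Mathlib.GroupTheory.SpecificGroups.Alternating
import Mathlib.LinearAlgebra.QuadraticForm.Basic

/-!
# The case `Sp_4(2)`

* `Frame`, `ecd`, `code` : numbers for vectors and matrices
* `exceptional` : the irreducible overgroups in `Sp_4(2)`
-/

set_option autoImplicit false
set_option linter.unusedSectionVars false

namespace Cfsg.Agent.SympX

open Cfsg Cfsg.Agent.Linear Module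
open QuadraticMap (polar)

variable {F : Type*} [Field F] [CharP F 2] [Fintype F]

local notation "V" => Fin 2 ⊕ Fin 2 → F
local notation "f" => Cfsg.sympForm 2 F

theorem two_vals (h : Fintype.card F = 2) (x : F) : x = 0 ∨ x = 1 := by
  classical
  by_contra hx
  push Not at hx
  have h3 : ({0, 1, x} : Finset F).card = 3 := by
    rw [Finset.card_insert_of_notMem (by simp [hx.1.symm]),
      Finset.card_insert_of_notMem (by simp [hx.2.symm]), Finset.card_singleton]
  have := Finset.card_le_univ ({0, 1, x} : Finset F)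
  omega

open Classical in
/-- The bit of a scalar. -/
noncomputable def bitF (x : F) : ℕ := if x = 0 then 0 else 1

theorem bitF_le (x : F) : bitF x ≤ 1 := by
  unfold bitF; split <;> simp

theorem bitF_zero : bitF (0 : F) = 0 := by simp [bitF]

theorem bitF_one : bitF (1 : F) = 1 := by simp [bitF]

section Two

variable (h2 : Fintype.card F = 2)
include h2

theorem bitF_add (x y : F) : bitF (x + y) = Nat.xor (bitF x) (bitF y) := by
  rcases two_vals h2 x with rfl | rfl <;> rcases two_vals h2 y with rfl | rfl <;>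
    simp [bitF_zero, bitF_one, CharTwo.add_self_eq_zero] <;> decide

theorem bitF_mul (x y : F) : bitF (x * y) = Nat.land (bitF x) (bitF y) := by
  rcases two_vals h2 x with rfl | rfl <;> rcases two_vals h2 y with rfl | rfl <;>
    simp [bitF_zero, bitF_one] <;> decide

theorem cast_bitF (x : F) : (bitF x : F) = x := by
  rcases two_vals h2 x with rfl | rfl <;> simp [bitF_zero, bitF_one]

end Two

/-- A symplectic basis. -/
structure Frame (a b c d : V) : Prop where
  ab : f a b = 1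
  cd : f c d = 1
  ac : f a c = 0
  ad : f a d = 0
  bc : f b c = 0
  bd : f b d = 0

/-- The number of a vector. -/
noncomputable def ecd (a b c d : V) (v : V) : ℕ :=
  bitF (f b v) + 2 * bitF (f a v) + 4 * bitF (f d v) + 8 * bitF (f c v)

/-- The number of a matrix. -/
noncomputable def code (a b c d : V) (g : Cfsg.spGL 2 F) : ℕ :=
  pack (ecd a b c d (g • a)) (ecd a b c d (g • b)) (ecd a b c d (g • c)) (ecd a b c d (g • d))

theorem pack_digit {i₀ i₁ i₂ i₃ : ℕ} (h0 : i₀ < 16) (h1 : i₁ < 16) (h2 : i₂ < 16) (h3 : i₃ < 16) :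
    Nat.land (pack i₀ i₁ i₂ i₃) 15 = i₀ ∧
      Nat.land (Nat.shiftRight (pack i₀ i₁ i₂ i₃) 4) 15 = i₁ ∧
      Nat.land (Nat.shiftRight (pack i₀ i₁ i₂ i₃) 8) 15 = i₂ ∧
      Nat.land (Nat.shiftRight (pack i₀ i₁ i₂ i₃) 12) 15 = i₃ := by
  have hl : ∀ x, Nat.land x 15 = x % 16 := fun x => Nat.and_two_pow_sub_one_eq_mod x 4
  have hs : ∀ x k, Nat.shiftRight x k = x / 2 ^ k := fun x k => Nat.shiftRight_eq_div_pow x k
  simp only [hl, hs, pack, Nat.add_eq, Nat.mul_eq]
  omega

theorem xor_bits : ∀ p₀ p₁ p₂ p₃ q₀ q₁ q₂ q₃ : Fin 2,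
    Nat.xor (p₀.1 + 2 * p₁.1 + 4 * p₂.1 + 8 * p₃.1) (q₀.1 + 2 * q₁.1 + 4 * q₂.1 + 8 * q₃.1) =
      Nat.xor p₀.1 q₀.1 + 2 * Nat.xor p₁.1 q₁.1 + 4 * Nat.xor p₂.1 q₂.1 + 8 * Nat.xor p₃.1 q₃.1 := by
  decide +kernel

theorem bit_bits : ∀ p₀ p₁ p₂ p₃ : Fin 2,
    bitN (p₀.1 + 2 * p₁.1 + 4 * p₂.1 + 8 * p₃.1) 0 = p₀.1 ∧
    bitN (p₀.1 + 2 * p₁.1 + 4 * p₂.1 + 8 * p₃.1) 1 = p₁.1 ∧
    bitN (p₀.1 + 2 * p₁.1 + 4 * p₂.1 + 8 * p₃.1) 2 = p₂.1 ∧
    bitN (p₀.1 + 2 * p₁.1 + 4 * p₂.1 + 8 * p₃.1) 3 = p₃.1 := by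
  decide +kernel

section Coding

variable {a b c d : Fin 2 ⊕ Fin 2 → F} (hF : Frame a b c d) (h2 : Fintype.card F = 2)
include hF h2

theorem ecd_lt (v : V) : ecd a b c d v < 16 := by
  have := bitF_le (f b v); have := bitF_le (f a v); have := bitF_le (f d v); have := bitF_le (f c v)
  simp only [ecd]; omega

theorem ecd_add (u v : V) : ecd a b c d (u + v) = Nat.xor (ecd a b c d u) (ecd a b c d v) := by
  simp only [ecd, sympForm_add_right, bitF_add h2]
  exact (xor_bits ⟨_, Nat.lt_succ_of_le (bitF_le (f b u))⟩ ⟨_, Nat.lt_succ_of_le (bitF_le (f a u))⟩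
    ⟨_, Nat.lt_succ_of_le (bitF_le (f d u))⟩ ⟨_, Nat.lt_succ_of_le (bitF_le (f c u))⟩
    ⟨_, Nat.lt_succ_of_le (bitF_le (f b v))⟩ ⟨_, Nat.lt_succ_of_le (bitF_le (f a v))⟩
    ⟨_, Nat.lt_succ_of_le (bitF_le (f d v))⟩ ⟨_, Nat.lt_succ_of_le (bitF_le (f c v))⟩).symm

theorem ecd_bits (v : V) : bitN (ecd a b c d v) 0 = bitF (f b v) ∧
    bitN (ecd a b c d v) 1 = bitF (f a v) ∧ bitN (ecd a b c d v) 2 = bitF (f d v) ∧
    bitN (ecd a b c d v) 3 = bitF (f c v) :=
  bit_bits ⟨_, Nat.lt_succ_of_le (bitF_le (f b v))⟩ ⟨_, Nat.lt_succ_of_le (bitF_le (f a v))⟩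
    ⟨_, Nat.lt_succ_of_le (bitF_le (f d v))⟩ ⟨_, Nat.lt_succ_of_le (bitF_le (f c v))⟩

theorem frame_expand (v : V) :
    v = f b v • a + f a v • b + f d v • c + f c v • d := by
  have hba : f b a = 1 := by rw [form_comm]; exact hF.ab
  have hdc : f d c = 1 := by rw [form_comm]; exact hF.cd
  have hca : f c a = 0 := by rw [form_comm]; exact hF.ac
  have hcb : f c b = 0 := by rw [form_comm]; exact hF.bc
  have hda : f d a = 0 := by rw [form_comm]; exact hF.ad
  have hdb : f d b = 0 := by rw [form_comm]; exact hF.bd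
  let B : V →ₗ[F] (Fin 4 → F) :=
    { toFun := fun v => ![f a v, f b v, f c v, f d v]
      map_add' := fun v w => by ext i; fin_cases i <;> simp
      map_smul' := fun k v => by ext i; fin_cases i <;> simp }
  have hsurj : Function.Surjective B := fun t => by
    refine ⟨t 1 • a + t 0 • b + t 3 • c + t 2 • d, ?_⟩
    ext i
    fin_cases i <;> simp [B, hF.ab, hF.cd, hF.ac, hF.ad, hF.bc, hF.bd, hba, hdc, hca, hcb, hda, hdb]
  have hinj : Function.Injective B :=
    (LinearMap.injective_iff_surjective_of_finrank_eq_finrank (by simp)).2 hsurj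
  apply hinj
  ext i
  fin_cases i <;> simp [B, hF.ab, hF.cd, hF.ac, hF.ad, hF.bc, hF.bd, hba, hdc, hca, hcb, hda, hdb]

theorem ecd_inj {u v : V} (h : ecd a b c d u = ecd a b c d v) : u = v := by
  obtain ⟨a1, a2, a3, a4⟩ := ecd_bits hF h2 u
  obtain ⟨b1, b2, b3, b4⟩ := ecd_bits hF h2 v
  have key : ∀ x y : F, bitF x = bitF y → x = y := fun x y e => by
    rw [← cast_bitF h2 x, e, cast_bitF h2]
  rw [frame_expand hF h2 u, frame_expand hF h2 v,
    key (f b u) (f b v) (by rw [← a1, h, b1]), key (f a u) (f a v) (by rw [← a2, h, b2]),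
    key (f d u) (f d v) (by rw [← a3, h, b3]), key (f c u) (f c v) (by rw [← a4, h, b4])]

theorem ecd_basis : ecd a b c d a = 1 ∧ ecd a b c d b = 2 ∧ ecd a b c d c = 4 ∧ ecd a b c d d = 8 := by
  have hba : f b a = 1 := by rw [form_comm]; exact hF.ab
  have hdc : f d c = 1 := by rw [form_comm]; exact hF.cd
  have hca : f c a = 0 := by rw [form_comm]; exact hF.ac
  have hcb : f c b = 0 := by rw [form_comm]; exact hF.bc
  have hda : f d a = 0 := by rw [form_comm]; exact hF.ad
  have hdb : f d b = 0 := by rw [form_comm]; exact hF.bd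
  simp [ecd, hF.ab, hF.cd, hF.ac, hF.ad, hF.bc, hF.bd, hba, hdc, hca, hcb, hda, hdb, bitF_zero,
    bitF_one]

theorem ecd_zero : ecd a b c d (0 : V) = 0 := by simp [ecd, bitF_zero]

theorem ecd_smul (k : F) (v : V) :
    ecd a b c d (k • v) = Nat.mul (bitF k) (ecd a b c d v) := by
  rcases two_vals h2 k with rfl | rfl
  · rw [zero_smul, ecd_zero hF h2, bitF_zero]; exact (Nat.zero_mul _).symm
  · rw [one_smul, bitF_one]; exact (Nat.one_mul _).symm

theorem ecd_surj {n : ℕ} (hn : n < 16) : ∃ v, ecd a b c d v = n := by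
  classical
  have hinj : Function.Injective fun v : V => (⟨ecd a b c d v, ecd_lt hF h2 v⟩ : Fin 16) :=
    fun u v e => ecd_inj hF h2 (congrArg Fin.val e)
  have hbij := (Fintype.bijective_iff_injective_and_card _).2 ⟨hinj, by simp [h2]⟩
  obtain ⟨v, hv⟩ := hbij.2 ⟨n, hn⟩
  exact ⟨v, congrArg Fin.val hv⟩

theorem app_code (g : Cfsg.spGL 2 F) (v : V) :
    app (code a b c d g) (ecd a b c d v) = ecd a b c d (g • v) := by
  obtain ⟨b0, b1, b2, b3⟩ := ecd_bits hF h2 v
  obtain ⟨d0, d1, d2, d3⟩ := pack_digit (ecd_lt hF h2 (g • a)) (ecd_lt hF h2 (g • b))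
    (ecd_lt hF h2 (g • c)) (ecd_lt hF h2 (g • d))
  conv_rhs => rw [frame_expand hF h2 v, smul_add, smul_add, smul_add, smul_comm g, smul_comm g,
    smul_comm g, smul_comm g, ecd_add hF h2, ecd_add hF h2, ecd_add hF h2, ecd_smul hF h2,
    ecd_smul hF h2, ecd_smul hF h2, ecd_smul hF h2]
  simp only [app, code, b0, b1, b2, b3, d0, d1, d2, d3]
  exact (Nat.xor_assoc _ _ _).symm

theorem code_mul (g h : Cfsg.spGL 2 F) :
    code a b c d (g * h) = mulc (code a b c d g) (code a b c d h) := by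
  obtain ⟨d0, d1, d2, d3⟩ := pack_digit (ecd_lt hF h2 (h • a)) (ecd_lt hF h2 (h • b))
    (ecd_lt hF h2 (h • c)) (ecd_lt hF h2 (h • d))
  rw [mulc, show code a b c d h = pack _ _ _ _ from rfl, d0, d1, d2, d3, app_code hF h2,
    app_code hF h2, app_code hF h2, app_code hF h2]
  simp only [code, mul_smul]

theorem code_one : code a b c d (1 : Cfsg.spGL 2 F) = oneC := by
  obtain ⟨e0, e1, e2, e3⟩ := ecd_basis hF h2
  simp [code, oneC, e0, e1, e2, e3]

theorem code_inj {g h : Cfsg.spGL 2 F} (e : code a b c d g = code a b c d h) : g = h := by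
  refine spGL_ext fun v => ecd_inj hF h2 ?_
  rw [← app_code hF h2, ← app_code hF h2, e]

theorem fN_ecd (u v : V) : fN (ecd a b c d u) (ecd a b c d v) = bitF (f u v) := by
  obtain ⟨a0, a1, a2, a3⟩ := ecd_bits hF h2 u
  obtain ⟨b0, b1, b2, b3⟩ := ecd_bits hF h2 v
  have e : f u v = f b u * f a v + f a u * f b v + (f d u * f c v + f c u * f d v) := by
    conv_lhs => rw [frame_expand hF h2 u]
    simp only [sympForm_add_left, sympForm_smul_left]
    ring
  rw [e, bitF_add h2, bitF_add h2, bitF_add h2, bitF_mul h2, bitF_mul h2, bitF_mul h2, bitF_mul h2,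
    fN, a0, a1, a2, a3, b0, b1, b2, b3]

theorem sym_code (g : Cfsg.spGL 2 F) : Sym (code a b c d g) := by
  refine ⟨_, _, _, _, ⟨ecd_lt hF h2 _, ecd_lt hF h2 _, ecd_lt hF h2 _, ecd_lt hF h2 _, ?_⟩, rfl⟩
  simp [fN_ecd hF h2, sympForm_smul_smul, hF.ab, hF.cd, hF.ac, hF.ad, hF.bc, hF.bd, bitF_zero,
    bitF_one]

theorem code_tv : code a b c d (spTv a 1) = tvC := by
  obtain ⟨e0, e1, e2, e3⟩ := ecd_basis hF h2
  have hba : f b a = 1 := by rw [form_comm]; exact hF.ab
  have hca : f c a = 0 := by rw [form_comm]; exact hF.ac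
  have hda : f d a = 0 := by rw [form_comm]; exact hF.ad
  have e : ecd a b c d (b + a) = 3 := by rw [ecd_add hF h2, e1, e0]; decide
  simp [code, tvC, spTv_smul, hba, hca, hda, e, e0, e2, e3]

theorem code_uni_c (l : F) (hl : bitF l = 0 ∨ bitF l = 1) :
    code a b c d (uni a c l) = pack 1 (Nat.xor 6 (bitF l)) 4 9 := by
  obtain ⟨e0, e1, e2, e3⟩ := ecd_basis hF h2
  have hba : f b a = 1 := by rw [form_comm]; exact hF.ab
  have hdc : f d c = 1 := by rw [form_comm]; exact hF.cd
  have hca : f c a = 0 := by rw [form_comm]; exact hF.ac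
  have hda : f d a = 0 := by rw [form_comm]; exact hF.ad
  have ha' : uni a c l • a = a := uni_fix hF.ac _ (by simp) hF.ac
  have hb' : uni a c l • b = b + c + l • a := by simp [uni_smul hF.ac, hba, hF.bc]
  have hc' : uni a c l • c = c := uni_fix hF.ac _ hca (by simp)
  have hd' : uni a c l • d = d + a := by simp [uni_smul hF.ac, hda, hdc]
  rw [code, ha', hb', hc', hd', ecd_add hF h2, ecd_add hF h2, ecd_add hF h2, ecd_smul hF h2, e0, e1,
    e2, e3]
  rcases hl with e | e <;> rw [e] <;> decide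

theorem code_uni_d (l : F) (hl : bitF l = 0 ∨ bitF l = 1) :
    code a b c d (uni a d l) = pack 1 (Nat.xor 10 (bitF l)) 5 8 := by
  obtain ⟨e0, e1, e2, e3⟩ := ecd_basis hF h2
  have hba : f b a = 1 := by rw [form_comm]; exact hF.ab
  have hca : f c a = 0 := by rw [form_comm]; exact hF.ac
  have hda : f d a = 0 := by rw [form_comm]; exact hF.ad
  have ha' : uni a d l • a = a := uni_fix hF.ad _ (by simp) hF.ad
  have hb' : uni a d l • b = b + d + l • a := by simp [uni_smul hF.ad, hba, hF.bd]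
  have hc' : uni a d l • c = c + a := by simp [uni_smul hF.ad, hca, hF.cd]
  have hd' : uni a d l • d = d := uni_fix hF.ad _ hda (by simp)
  rw [code, ha', hb', hc', hd', ecd_add hF h2, ecd_add hF h2, ecd_add hF h2, ecd_smul hF h2, e0, e1,
    e2, e3]
  rcases hl with e | e <;> rw [e] <;> decide

theorem count_rec (p : ℕ → Bool) (n : ℕ) :
    (Nat.rec 0 (fun w r => Nat.add (cond (p w) 1 0) r) n : ℕ) =
      ((Finset.range n).filter fun w => p w = true).card := by
  induction n with
  | zero => simp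
  | succ n ih =>
    rw [Finset.range_add_one, Finset.filter_insert]
    show Nat.add (cond (p n) 1 0) _ = _
    rw [ih]
    cases hp : p n
    · simp
    · simp [Finset.card_insert_of_notMem, Nat.add_comm]

theorem evenC_code (g : Cfsg.spGL 2 F) :
    evenC (code a b c d g) = true ↔ Even ((g.1.1 - 1).rank) := by
  classical
  set R := LinearMap.range (g.1.1 - 1).mulVecLin with hR
  have hap : ∀ v : V, (g.1.1 - 1).mulVecLin v = g • v + v := fun v => by
    rw [Matrix.mulVecLin_apply, Matrix.sub_mulVec, Matrix.one_mulVec, spGL_smul_eq]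
    ext i
    simp [CharTwo.sub_eq_add]
  have himg : ((Finset.range 16).filter fun w =>
      (anyK 16 fun v => Nat.beq (Nat.xor (app (code a b c d g) v) v) w) = true) =
      (R : Set V).toFinset.image (ecd a b c d) := by
    ext w
    simp only [Finset.mem_filter, Finset.mem_range, Finset.mem_image, Set.mem_toFinset,
      SetLike.mem_coe]
    constructor
    · rintro ⟨-, h⟩
      obtain ⟨n, hn, he⟩ := anyK_spec h
      obtain ⟨v, rfl⟩ := ecd_surj hF h2 hn
      refine ⟨_, LinearMap.mem_range_self _ v, ?_⟩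
      rw [hap, ecd_add hF h2, ← app_code hF h2]
      exact Nat.eq_of_beq_eq_true he
    · rintro ⟨_, ⟨v, rfl⟩, rfl⟩
      refine ⟨ecd_lt hF h2 _, ?_⟩
      have hb : Nat.beq (Nat.xor (app (code a b c d g) (ecd a b c d v)) (ecd a b c d v))
          (ecd a b c d ((g.1.1 - 1).mulVecLin v)) = true := by
        rw [hap, ecd_add hF h2, ← app_code hF h2]; exact Nat.beq_refl _
      have key : ∀ (P : ℕ → Bool) (n i : ℕ), i < n → P i = true → anyK n P = true := by
        intro P n i hi hP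
        induction n with
        | zero => omega
        | succ n ih =>
          simp only [anyK, Bool.or_eq_true]
          rcases Nat.lt_succ_iff_lt_or_eq.1 hi with hlt | rfl
          · exact .inr (ih hlt)
          · exact .inl hP
      exact key _ _ _ (ecd_lt hF h2 v) hb
  have hcard : ((Finset.range 16).filter fun w =>
      (anyK 16 fun v => Nat.beq (Nat.xor (app (code a b c d g) v) v) w) = true).card =
      2 ^ finrank F R := by
    rw [himg, Finset.card_image_of_injective _ fun u v => ecd_inj hF h2, Set.toFinset_card,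
      ← Nat.card_eq_fintype_card, SetLike.coe_sort_coe, Module.natCard_eq_pow_finrank (K := F),
      Nat.card_eq_fintype_card, h2]
  have hle : finrank F R ≤ 4 := (Submodule.finrank_le R).trans (by simp)
  rw [evenC, count_rec hF h2, hcard, Matrix.rank, ← hR, memK_iff]
  generalize finrank F R = r at hle
  interval_cases r <;> simp [Nat.even_iff]

end Coding

end Cfsg.Agent.SympX
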