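import Cfsg.Agent.Lib.SympX.Aniso
import Cfsg.Agent.Lib.Orth.Eichler

/-!
# From the invariant form to the orthogonal groups

* `general_case` : a clean group is the isometry group of a form or its subgroup of even rank
* `iso_sp` : an isometry of a form with polar form the symplectic form is symplectic
-/

set_option autoImplicit false
set_option linter.unusedSectionVars false

namespace Cfsg.Agent.SympX

open Cfsg Cfsg.Agent.Linear Module
open QuadraticMap (polar)
open Cfsg.Agent.Orth (IsoGrp ap)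

variable {F : Type*} [Field F] [CharP F 2] [Fintype F] {m : ℕ}

local notation "V" => Fin m ⊕ Fin m → F
local notation "f" => Cfsg.sympForm m F

theorem iso_sp {Q : QuadraticForm F V} (hQ : ∀ x y, polar ⇑Q x y = f x y)
    {g : GL (Fin m ⊕ Fin m) F} (hg : g ∈ Cfsg.isometryGroup F ⇑Q) : g ∈ Cfsg.spGL m F := by
  intro u v
  show f (g.1.mulVec u) (g.1.mulVec v) = f u v
  have := Orth.polar_ap (⟨g, hg⟩ : IsoGrp Q) u v
  rwa [hQ, hQ] at this

/-- The isometries inside the symplectic group. -/
noncomputable def isoIncl {Q : QuadraticForm F V} (hQ : ∀ x y, polar ⇑Q x y = f x y) :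
    IsoGrp Q →* Cfsg.spGL m F :=
  ((Cfsg.isometryGroup F ⇑Q).subtype).codRestrict _ fun g => iso_sp hQ g.2

/-- A clean group is orthogonal. -/
theorem general_case {L : Subgroup (Cfsg.spGL m F)} (hC : Clean L)
    (h : Fintype.card F ≠ 2 ∨ m ≠ 2) :
    ∃ Q : QuadraticForm F V, (∀ x y, polar ⇑Q x y = f x y) ∧
      ((∀ g, g ∈ L ↔ ∀ x, Q (g • x) = Q x) ∨
        (∀ g, g ∈ L ↔ (∀ x, Q (g • x) = Q x) ∧ Even ((g.1.1 - 1).rank))) := by
  classical
  obtain ⟨Q, hQ, hpres, a, b, ha, hb, hab, hQa, hQb⟩ := exists_form hC (hC.adjOK_of_ne h)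
  refine ⟨Q, hQ, ?_⟩
  have hnd : Q.polarBilin.Nondegenerate := by
    constructor <;> intro x hx <;> by_contra h0 <;> obtain ⟨y, hy⟩ := exists_sympForm_ne_zero h0
    · exact hy ((hQ x y).symm.trans (hx y))
    · exact hy ((form_comm x y).trans ((hQ y x).symm.trans (hx y)))
  have hm := hC.two
  have hgood : Orth.Good Q := by
    refine ⟨hnd, ?_⟩
    rcases h with h | h
    · exact .inl (Orth.exists_scalar_of_card h)
    · exact .inr (by simp; omega)
  set K : Subgroup (IsoGrp Q) := L.comap (isoIncl hQ) with hK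
  have heich : ∀ {c w : V}, IsPt L c → GoodAt L ⇑Q c → f c w = 0 → Orth.eich Q c w ∈ K := by
    intro c w hc hg hw
    rw [hK, Subgroup.mem_comap]
    convert qf_mem hc hw using 1
    refine spGL_ext fun x => ?_
    show ap (Orth.eich Q c w) x = _
    rw [Orth.eich_ap hg.1 (by rw [hQ, hw]), uni_smul hw, hg.2 w hw, hQ, hQ, form_comm c x,
      form_comm w x]
    ext i
    simp only [Pi.add_apply, Pi.sub_apply, Pi.smul_apply, smul_eq_mul, CharTwo.sub_eq_add]
    ring
  have hpair : Orth.HPair Q a b := ⟨hQa.1, hQb.1, by rw [hQ, hab]⟩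
  have hΩ : Omega F ⇑Q ≤ K := by
    rw [Orth.omega_eq_eichPair hgood (by simp; omega) (by
      rcases h with h | h
      · exact .inl (Orth.exists_scalar_of_card h)
      · exact .inr (by simp; omega)) hpair, Orth.eichPair, Subgroup.closure_le]
    rintro _ ⟨w, hw, rfl | rfl⟩ <;> rw [Orth.mem_perp, hQ, hQ] at hw
    · exact heich ha hQa hw.1
    · exact heich hb hQb hw.2
  have hmem : ∀ g : IsoGrp Q, g ∈ K ↔ isoIncl hQ g ∈ L := fun g => Subgroup.mem_comap
  have hidx : (Omega F ⇑Q).index = 2 :=
    Orth.omega_index_two hgood (by simp; omega) CharTwo.two_eq_zero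
  have key : ∀ (g : Cfsg.spGL m F), (∀ x, Q (g • x) = Q x) →
      ∃ g' : IsoGrp Q, isoIncl hQ g' = g := fun g hg =>
    ⟨⟨g.1, fun x _ => hg x⟩, rfl⟩
  by_cases htop : K = ⊤
  · left
    refine fun g => ⟨fun hg => hpres g hg, fun hg => ?_⟩
    obtain ⟨g', rfl⟩ := key g hg
    exact (hmem g').1 (htop ▸ Subgroup.mem_top g')
  · right
    have hKeq : K = Omega F ⇑Q := by
      refine le_antisymm ?_ hΩ
      have h1 := Subgroup.relIndex_mul_index hΩ
      rw [hidx] at h1
      have h2 : K.index ≠ 1 := fun h => htop (Subgroup.index_eq_one.1 h)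
      have h3 : (Omega F ⇑Q).relIndex K = 1 := by
        rcases (Nat.dvd_prime Nat.prime_two).1 (Dvd.intro_left _ h1 : K.index ∣ 2) with e | e
        · exact absurd e h2
        · rw [e] at h1; omega
      exact Subgroup.relIndex_eq_one.1 h3
    have hdick : ∀ g' : IsoGrp Q, g' ∈ K ↔ Even ((g'.1.1 - 1).rank) := by
      intro g'
      have hr : finrank F (Orth.resSpace g') = (g'.1.1 - 1).rank := by
        have e : ap g' - LinearMap.id = (g'.1.1 - 1).mulVecLin := LinearMap.ext fun x => by
          rw [Matrix.mulVecLin_apply, Matrix.sub_mulVec, Matrix.one_mulVec]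
          rfl
        rw [Matrix.rank, Orth.resSpace, e]
      rw [hKeq, Orth.mem_omega_iff hgood, and_iff_left (Orth.spin_eq_one_of_two hgood
        CharTwo.two_eq_zero g'), Orth.dick, hr]
      constructor
      · intro h1
        by_contra hodd
        rw [(Nat.not_even_iff_odd.1 hodd).neg_one_pow] at h1
        norm_num at h1
      · exact fun he => he.neg_one_pow
    intro g
    constructor
    · intro hg
      obtain ⟨g', rfl⟩ := key g (hpres g hg)
      exact ⟨hpres _ hg, (hdick g').1 ((hmem g').2 hg)⟩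
    · rintro ⟨h1, h2⟩
      obtain ⟨g', rfl⟩ := key g h1
      exact (hmem g').1 ((hdick g').2 h2)

end Cfsg.Agent.SympX
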