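import Cfsg.Agent.Lib.SympX.Basic
import Mathlib.FieldTheory.Finite.Basic

/-!
# Overgroups of the large unipotent subgroups: points and the transvection case

* `IsPt L a` : over every `v ⊥ a` some `uni a v l` lies in `L`
* `eq_top_of_transvection` : if a point is the centre of a transvection in an irreducible `L`, `L = ⊤`
-/

set_option autoImplicit false
set_option linter.unusedSectionVars false

namespace Cfsg.Agent.SympX

open Cfsg Cfsg.Agent.Linear Module

variable {F : Type*} [Field F] [CharP F 2] {m : ℕ} {L : Subgroup (Cfsg.spGL m F)}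

local notation "V" => Fin m ⊕ Fin m → F
local notation "f" => Cfsg.sympForm m F

/-- A point: nonzero, and over every orthogonal vector lies an element of `L`. -/
def IsPt (L : Subgroup (Cfsg.spGL m F)) (a : V) : Prop :=
  a ≠ 0 ∧ ∀ v, f a v = 0 → ∃ l, uni a v l ∈ L

/-- No proper invariant subspace. -/
def Irred (L : Subgroup (Cfsg.spGL m F)) : Prop :=
  ∀ W : Submodule F V, (∀ g ∈ L, ∀ w ∈ W, g • w ∈ W) → W = ⊥ ∨ W = ⊤

theorem IsPt.smul {a : V} (h : IsPt L a) {c : F} (hc : c ≠ 0) : IsPt L (c • a) := by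
  refine ⟨smul_ne_zero hc h.1, fun v hv => ?_⟩
  rw [sympForm_smul_left, mul_eq_zero, or_iff_right hc] at hv
  obtain ⟨l, hl⟩ := h.2 (c • v) (by rw [sympForm_smul_right, hv, mul_zero])
  refine ⟨(c ^ 2)⁻¹ * l, ?_⟩
  rwa [uni_smul_left hv, mul_inv_cancel_left₀ (pow_ne_zero _ hc)]

theorem IsPt.act {a : V} (h : IsPt L a) {g : Cfsg.spGL m F} (hg : g ∈ L) : IsPt L (g • a) := by
  refine ⟨fun h0 => h.1 ((smul_eq_zero_iff_eq g).1 h0), fun v hv => ?_⟩
  obtain ⟨l, hl⟩ := h.2 (g⁻¹ • v) (by
    rw [← sympForm_smul_smul g, smul_inv_smul]; exact hv)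
  refine ⟨l, ?_⟩
  have := L.mul_mem (L.mul_mem hg hl) (L.inv_mem hg)
  rwa [uni_conj, smul_inv_smul] at this

theorem spTv_act {a : V} {t : F} {g : Cfsg.spGL m F} (hg : g ∈ L) (h : spTv a t ∈ L) :
    spTv (g • a) t ∈ L := by
  rw [← spTv_conj]
  exact L.mul_mem (L.mul_mem hg h) (L.inv_mem hg)

/-- An invariant non-empty set of non-zero vectors is not orthogonal to any non-zero vector. -/
theorem exists_opp (hirr : Irred L) (S : Set V) (h0 : ∀ s ∈ S, s ≠ 0) (hne : S.Nonempty)
    (hinv : ∀ g ∈ L, ∀ s ∈ S, g • s ∈ S) {w : V} (hw : w ≠ 0) : ∃ s ∈ S, f w s ≠ 0 := by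
  by_contra! hall
  have hspan : Submodule.span F S = ⊤ := by
    refine (hirr _ fun g hg x hx => ?_).resolve_left fun hb => ?_
    · induction hx using Submodule.span_induction with
      | mem y hy => exact Submodule.subset_span (hinv g hg y hy)
      | zero => simp
      | add y z _ _ hy hz => rw [smul_add]; exact add_mem hy hz
      | smul c y _ hy => rw [smul_comm]; exact Submodule.smul_mem _ c hy
    · obtain ⟨s, hs⟩ := hne
      exact h0 s hs ((Submodule.span_eq_bot.1 hb) s hs)
  obtain ⟨y, hy⟩ := exists_sympForm_ne_zero hw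
  apply hy
  have hy' : y ∈ Submodule.span F S := hspan ▸ Submodule.mem_top
  clear hy
  induction hy' using Submodule.span_induction with
  | mem x hx => exact hall x hx
  | zero => simp
  | add x z _ _ hx hz => rw [sympForm_add_right, hx, hz, add_zero]
  | smul c x _ hx => rw [sympForm_smul_right, hx, mul_zero]

/-- Two vectors have a non-zero common orthogonal vector when `m ≥ 2`. -/
theorem exists_orth_two (hm : 2 ≤ m) (a b : V) : ∃ u : V, u ≠ 0 ∧ f a u = 0 ∧ f b u = 0 := by
  let B : V →ₗ[F] F × F :=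
    { toFun := fun v => (f a v, f b v)
      map_add' := fun v w => by simp
      map_smul' := fun c v => by simp }
  obtain ⟨u, hu, hu0⟩ := (Submodule.ne_bot_iff _).1
    (show LinearMap.ker B ≠ ⊥ from LinearMap.ker_ne_bot_of_finrank_lt (by simp; omega))
  have := LinearMap.mem_ker.1 hu
  exact ⟨u, hu0, congrArg Prod.fst this, congrArg Prod.snd this⟩

/-- Splitting off a hyperbolic pair. -/
theorem not_smul_of_pair {a b u : V} (hab : f a b ≠ 0) (hu : u ≠ 0) (hub : f b u = 0) :
    ∀ k : F, u ≠ k • a := by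
  rintro k rfl
  rw [sympForm_smul_right, form_comm, mul_eq_zero, or_iff_left hab] at hub
  exact hu (by rw [hub, zero_smul])

variable [Fintype F]

/-- The values on the orthogonal of a pair fill `F`. -/
theorem exists_value (hm : 2 ≤ m) {a b : V} (hab : f a b ≠ 0) (q : V → F) (hq0 : q 0 = 0)
    (hq : ∀ u w, f a u = 0 → f a w = 0 → q (u + w) = q u + q w + f u w) {s : F} (hs : s ≠ 0) :
    ∃ u : V, u ≠ 0 ∧ f a u = 0 ∧ f b u = 0 ∧ q u = s := by
  classical
  obtain ⟨u₀, hu0, hua, hub⟩ := exists_orth_two hm a b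
  have ha : a ≠ 0 := fun h => hab (by rw [h, sympForm_zero_left])
  have hna := not_smul_of_pair hab hu0 hub
  have hadd : ∀ k k' : F, q ((k + k') • u₀) = q (k • u₀) + q (k' • u₀) := fun k k' => by
    rw [add_smul, hq _ _ (by rw [sympForm_smul_right, hua, mul_zero])
      (by rw [sympForm_smul_right, hua, mul_zero]), sympForm_smul_left, sympForm_smul_right,
      sympForm_self]
    ring
  obtain ⟨j, hj⟩ : ∃ j : F, ∀ k : F, q (k • u₀) + k * j = 0 → k = 0 := by
    by_contra! hbad
    choose k hk hk0 using hbad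
    have hinj : Function.Injective k := by
      intro j j' e
      have h1 := hk j
      rw [e] at h1
      exact mul_left_cancel₀ (hk0 j') (add_left_cancel (h1.trans (hk j').symm))
    obtain ⟨j, hj⟩ := (Finite.injective_iff_surjective.1 hinj) 0
    exact hk0 j hj
  let φ : F →+ F := AddMonoidHom.mk' (fun k => q (k • u₀) + k * j) fun k k' => by
    simp only [hadd]; ring
  have hinj : Function.Injective φ := (injective_iff_map_eq_zero φ).2 hj
  have hsurj : Function.Surjective φ := Finite.injective_iff_surjective.1 hinj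
  by_cases hj0 : j = 0
  · obtain ⟨k, hk⟩ := hsurj s
    have hk' : q (k • u₀) = s := by
      rw [← hk]
      show _ = q (k • u₀) + k * j
      rw [hj0, mul_zero, add_zero]
    refine ⟨k • u₀, fun h => hs ?_, by rw [sympForm_smul_right, hua, mul_zero],
      by rw [sympForm_smul_right, hub, mul_zero], hk'⟩
    rw [← hk', h, hq0]
  · have hne : ∀ k l : F, u₀ ≠ k • a + l • b := by
      intro k l e
      have h1 : f a u₀ = l * f a b := by simp [e]
      have hl : l = 0 := by rw [hua] at h1; exact (mul_eq_zero.1 h1.symm).resolve_right hab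
      rw [hl, zero_smul, add_zero] at e
      exact hna k e
    have hb : ∀ k : F, b ≠ k • a := by
      rintro k rfl
      exact hab (by simp)
    obtain ⟨z, hza, hzb, hzu⟩ := exists_val_triple (indep_triple ha hb hne) 0 0 j
    obtain ⟨k, hk⟩ := hsurj (s + q z)
    have hk' : q (k • u₀) + k * j = s + q z := hk
    refine ⟨k • u₀ + z, fun h => hj0 ?_, by simp [hua, hza], by simp [hub, hzb], ?_⟩
    · have := congrArg (f u₀) h
      simpa [hzu] using this
    · rw [hq _ _ (by simp [hua]) hza, sympForm_smul_left, hzu,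
        show q (k • u₀) + q z + k * j = (q (k • u₀) + k * j) + q z by ring, hk', add_assoc,
        CharTwo.add_self_eq_zero, add_zero]

/-- The scalars of the transvections with centre `a` in `L` form a group. -/
theorem spTv_add_mem {a : V} {s t : F} (hs : spTv a s ∈ L) (ht : spTv a t ∈ L) :
    spTv a (s + t) ∈ L := by rw [spTv_add]; exact L.mul_mem hs ht

theorem uni_add_tv {a v : V} (hv : f a v = 0) {l t : F} (h : uni a v l ∈ L) (ht : spTv a t ∈ L) :
    uni a v (l + t) ∈ L := by
  have := L.mul_mem h ht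
  rwa [← uni_zero, uni_mul hv (sympForm_zero_right a), add_zero, sympForm_zero_right, add_zero]
    at this

theorem tv_of_two {a v : V} (hv : f a v = 0) {l l' : F} (h : uni a v l ∈ L) (h' : uni a v l' ∈ L) :
    spTv a (l + l') ∈ L := by
  have := L.mul_mem h h'
  rwa [uni_mul hv hv, sympForm_self, add_zero, add_self_vec, uni_zero] at this

theorem tv_scale {a : V} {t : F} (ht : t ≠ 0) (h : spTv a t ∈ L) :
    ∃ c : F, c ≠ 0 ∧ spTv (c • a) 1 ∈ L := by
  obtain ⟨c, hc⟩ := FiniteField.isSquare_of_char_two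
    (CharP.ringChar_of_prime_eq_zero Nat.prime_two (CharTwo.two_eq_zero (R := F))) t
  refine ⟨c, fun h0 => ht (by rw [hc, h0, mul_zero]), ?_⟩
  rwa [spTv_smul_vec, mul_one, pow_two, ← hc]

/-- The propagation step. -/
theorem key_step {a b u : V} {σ : F} (hA : IsPt L a) (hb : spTv b 1 ∈ L) (hσ : σ = f a b)
    (hσ0 : σ ≠ 0) (hu0 : u ≠ 0) (hua : f a u = 0) (hub : f b u = 0)
    (hu : uni a u (σ⁻¹ ^ 2) ∈ L) (ρ : F) : uni a (ρ • u) (ρ ^ 2 * σ⁻¹ ^ 2) ∈ L := by
  subst hσ
  set σ := f a b with hσ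
  have hba : f b a = σ := by rw [form_comm, hσ]
  set c := uni a u (σ⁻¹ ^ 2) • b with hc
  have hc' : c = b + σ • u + σ⁻¹ • a := by
    rw [hc, uni_smul hua, hba, hub, zero_smul, add_zero,
      show σ⁻¹ ^ 2 * σ = σ⁻¹ by field_simp]
  have hd : spTv (b + c) 1 ∈ L := by
    have h1 : f c b = 1 := by
      rw [hc']
      simp [hub, form_comm u b, ← hσ, hσ0]
    have h2 := spTv_act hb (spTv_act hu hb)
    rwa [← hc, spTv_smul, h1, mul_one, one_smul, add_comm c b] at h2
  have hbc : b + c = σ • u + σ⁻¹ • a := by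
    rw [hc', ← add_assoc, ← add_assoc, add_self_vec, zero_add]
  rw [hbc] at hd
  have hna := not_smul_of_pair hσ0 hu0 hub
  obtain ⟨v, hva, hvu⟩ := exists_val_pair (indep_pair hA.1 hna) 0 (ρ * σ⁻¹ * σ⁻¹)
  obtain ⟨l, hl⟩ := hA.2 v hva
  have h1 := L.mul_mem (L.mul_mem hd hl) (L.inv_mem hd)
  have hfv : f v (σ • u + σ⁻¹ • a) = ρ * σ⁻¹ := by
    rw [sympForm_add_right, sympForm_smul_right, sympForm_smul_right, form_comm v u, hvu,
      form_comm v a, hva, mul_zero, add_zero]
    field_simp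
  have hfa : f a (σ • u + σ⁻¹ • a) = 0 := by simp [hua]
  rw [uni_conj, spTv_smul, spTv_smul, hfv, hfa, mul_zero, zero_smul, add_zero, one_mul,
    smul_add, smul_smul, smul_smul, ← add_assoc,
    show ρ * σ⁻¹ * σ = ρ by field_simp, uni_add_smul (by simp [hva, hua])] at h1
  have h2 := L.mul_mem hl h1
  rw [uni_mul hva (by simp [hva, hua]), ← add_assoc, add_self_vec, zero_add] at h2
  convert h2 using 2
  rw [CharTwo.add_self_eq_zero, zero_add, sympForm_add_right, sympForm_self, zero_add,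
    sympForm_smul_right, form_comm v u, hvu]
  ring

/-- A quadratic function with polar form the symplectic form. -/
def quad0 (x : V) : F := ∑ i, x (Sum.inl i) * x (Sum.inr i)

theorem quad0_add (x y : V) : quad0 (x + y) = quad0 x + quad0 y + f x y := by
  rw [sympForm_eq_sum]
  simp only [CharTwo.sub_eq_add, quad0, Pi.add_apply, ← Finset.sum_add_distrib]
  exact Finset.sum_congr rfl fun i _ => by ring

theorem quad0_zero : quad0 (0 : V) = 0 := by simp [quad0]

/-- Some exactly quadratic choice of the elements over `a⊥`. -/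
theorem exists_exact {a : V} (hA : IsPt L a) : ∃ q : V → F, q 0 = 0 ∧
    (∀ u w, f a u = 0 → f a w = 0 → q (u + w) = q u + q w + f u w) ∧
    ∀ v, f a v = 0 → uni a v (q v) ∈ L := by
  classical
  let T : AddSubgroup F :=
    { carrier := {t | spTv a t ∈ L}
      add_mem' := fun h1 h2 => spTv_add_mem h1 h2
      zero_mem' := by show spTv a 0 ∈ L; rw [spTv_zero]; exact L.one_mem
      neg_mem' := fun {t} h => by show spTv a (-t) ∈ L; rwa [CharTwo.neg_eq] }
  let _ : Algebra (ZMod 2) F := ZMod.algebra F 2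
  let S : Submodule (ZMod 2) F :=
    { T.toAddSubmonoid with
      smul_mem' := fun c x hx => by
        have hc : c = 0 ∨ c = 1 := by revert c; decide
        rcases hc with rfl | rfl
        · rw [zero_smul]; exact T.zero_mem
        · rw [one_smul]; exact hx }
  obtain ⟨p, hp⟩ : ∃ p : F →ₗ[ZMod 2] F, (∀ t ∈ T, p t = 0) ∧ ∀ x, x + p x ∈ T := by
    obtain ⟨C, hC⟩ := Submodule.exists_isCompl S
    refine ⟨C.projectionOnto S hC.symm |> (C.subtype.comp ·), fun t ht => ?_, fun x => ?_⟩
    · simp [Submodule.projectionOnto_apply_eq_zero_iff, show t ∈ S from ht]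
    · show x + (C.projectionOnto S hC.symm x : F) ∈ S
      rw [← Submodule.projectionOnto_apply_eq_zero_iff hC.symm, map_add,
        Submodule.projectionOnto_apply_left]
      exact Subtype.ext (CharTwo.add_self_eq_zero _)
  choose g hg using fun v (hv : f a v = 0) => hA.2 v hv
  refine ⟨fun v => quad0 v + if hv : f a v = 0 then p (g v hv + quad0 v) else 0, ?_, ?_, ?_⟩
  · have h0 : g 0 (sympForm_zero_right a) ∈ T := by
      have := hg 0 (sympForm_zero_right a)
      rwa [uni_zero] at this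
    simp [quad0_zero, hp.1 _ h0]
  · intro u w hu hw
    have hs : f a (u + w) = 0 := by simp [hu, hw]
    have h1 := L.mul_mem (hg u hu) (hg w hw)
    rw [uni_mul hu hw] at h1
    have h2 : g (u + w) hs + (g u hu + g w hw + f u w) ∈ T := tv_of_two hs (hg _ hs) h1
    simp only [dif_pos hu, dif_pos hw, dif_pos hs, quad0_add]
    have h3 : g (u + w) hs + (quad0 u + quad0 w + f u w) =
        (g (u + w) hs + (g u hu + g w hw + f u w)) + ((g u hu + quad0 u) + (g w hw + quad0 w)) := by
      linear_combination -(g u hu + g w hw) * (CharTwo.two_eq_zero (R := F))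
    rw [h3, map_add p, hp.1 _ h2, map_add p]
    ring
  · intro v hv
    simp only [dif_pos hv]
    have h1 : spTv a ((g v hv + quad0 v) + p (g v hv + quad0 v)) ∈ L := hp.2 _
    convert uni_add_tv hv (hg v hv) h1 using 2
    linear_combination -(g v hv) * (CharTwo.two_eq_zero (R := F))

/-- A point scaled into a transvection centre, with a proper scalar group, pairs to one. -/
theorem pair_one (hm : 2 ≤ m) {a b : V} (hA : IsPt L a) (ha : spTv a 1 ∈ L) (hb : spTv b 1 ∈ L)
    (hab : f a b ≠ 0) (hproper : ∃ t, spTv a t ∉ L) : f a b = 1 := by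
  by_contra hne
  set σ := f a b with hσ
  have hs : σ⁻¹ ^ 2 ≠ 0 := pow_ne_zero _ (inv_ne_zero hab)
  obtain ⟨q, hq0, hq, hqL⟩ := exists_exact hA
  obtain ⟨u, hu0, hua, hub, hqu⟩ := exists_value hm (hσ ▸ hab) q hq0 hq hs
  have hu : uni a u (σ⁻¹ ^ 2) ∈ L := hqu ▸ hqL u hua
  have hρ : 1 + σ ≠ 0 := fun h => hne (CharTwo.add_eq_zero.1 h).symm
  have hu' : uni a ((1 + σ) • u) (σ⁻¹ ^ 2) ∈ L := by
    have h1 := uni_add_tv (by simp [hua]) (key_step hA hb hσ hab hu0 hua hub hu (1 + σ)) ha
    convert h1 using 2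
    field_simp
    linear_combination -(σ + σ ^ 2) * (CharTwo.two_eq_zero (R := F))
  obtain ⟨t, ht⟩ := hproper
  apply ht
  obtain ⟨ψ, hψ⟩ := FiniteField.isSquare_of_char_two
    (CharP.ringChar_of_prime_eq_zero Nat.prime_two (CharTwo.two_eq_zero (R := F))) t
  have h1 := key_step hA hb hσ hab (smul_ne_zero hρ hu0) (by simp [hua]) (by simp [hub]) hu' ψ
  have h2 := key_step hA hb hσ hab hu0 hua hub hu (ψ * (1 + σ))
  rw [smul_smul] at h1
  have h3 := tv_of_two (by simp [hua]) h1 h2
  convert h3 using 2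
  rw [hψ]
  field_simp
  linear_combination -(ψ ^ 2 * σ + ψ ^ 2) * (CharTwo.two_eq_zero (R := F))

/-- If a point is the centre of a transvection in an irreducible group, all its transvections are there. -/
theorem full_of_transvection (hm : 2 ≤ m) (hirr : Irred L) {a : V} (hA : IsPt L a) {t : F}
    (ht : t ≠ 0) (hta : spTv a t ∈ L) : ∀ s, spTv a s ∈ L := by
  by_contra hp
  set S : Set V := {c | IsPt L c ∧ (∃ t : F, t ≠ 0 ∧ spTv c t ∈ L) ∧ ¬ ∀ s, spTv c s ∈ L} with hS
  have hinv : ∀ g ∈ L, ∀ s ∈ S, g • s ∈ S := by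
    rintro g hg s ⟨h1, ⟨t, ht, hts⟩, h3⟩
    refine ⟨h1.act hg, ⟨t, ht, spTv_act hg hts⟩, fun hall => h3 fun r => ?_⟩
    have := spTv_act (L.inv_mem hg) (hall r)
    rwa [inv_smul_smul] at this
  have hscale : ∀ s ∈ S, ∀ c : F, c ≠ 0 → c • s ∈ S := by
    rintro s ⟨h1, ⟨t, ht, hts⟩, h3⟩ c hc
    refine ⟨h1.smul hc, ⟨(c ^ 2)⁻¹ * t, mul_ne_zero (inv_ne_zero (pow_ne_zero _ hc)) ht, ?_⟩,
      fun hall => h3 fun r => ?_⟩
    · rwa [spTv_smul_vec, mul_inv_cancel_left₀ (pow_ne_zero _ hc)]
    · have := hall ((c ^ 2)⁻¹ * r)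
      rwa [spTv_smul_vec, mul_inv_cancel_left₀ (pow_ne_zero _ hc)] at this
  have hpair : ∀ x ∈ S, ∀ y ∈ S, spTv x 1 ∈ L → spTv y 1 ∈ L → f x y ≠ 0 → f x y = 1 :=
    fun x hx y _ h1 h2 h => pair_one hm hx.1 h1 h2 h (not_forall.1 hx.2.2)
  obtain ⟨c, hc, hca⟩ := tv_scale ht hta
  have haS : c • a ∈ S := hscale a ⟨hA, ⟨t, ht, hta⟩, hp⟩ c hc
  obtain ⟨b, hbS, hab⟩ := exists_opp hirr S (fun s hs => hs.1.1) ⟨_, haS⟩ hinv haS.1.1
  obtain ⟨t', ht', htb⟩ := hbS.2.1
  obtain ⟨d, hd, hdb⟩ := tv_scale ht' htb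
  set b' := d • b with hb'
  have hb'S : b' ∈ S := hscale b hbS d hd
  have hab0 : f (c • a) b' ≠ 0 := by
    rw [hb', sympForm_smul_right]; exact mul_ne_zero hd hab
  have h1 : f (c • a) b' = 1 := hpair _ haS _ hb'S hca hdb hab0
  have hba : f b' (c • a) = 1 := by rw [form_comm, h1]
  obtain ⟨q, hq0, hq, hqL⟩ := exists_exact haS.1
  have h01 : ∀ s : F, s ≠ 0 → s = 1 := by
    intro s hs
    obtain ⟨u, hu0, hua, hub, hqu⟩ := exists_value hm hab0 q hq0 hq hs
    have hu : uni (c • a) u s ∈ L := hqu ▸ hqL u hua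
    have e : f b' (uni (c • a) u s • b') = s := by
      rw [uni_smul hua, hba, hub]
      simp [hba, hub]
    have := hpair _ hb'S _ (hinv _ hu _ hb'S) hdb (spTv_act hu hdb) (by rw [e]; exact hs)
    rwa [e] at this
  refine haS.2.2 fun s => ?_
  rcases eq_or_ne s 0 with rfl | hs
  · rw [spTv_zero]; exact L.one_mem
  · rw [h01 s hs]; exact hca

/-- The transvection case. -/
theorem eq_top_of_transvection (hm : 2 ≤ m) (hirr : Irred L) {a : V} (hA : IsPt L a) {t : F}
    (ht : t ≠ 0) (hta : spTv a t ∈ L) : L = ⊤ := by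
  set S : Set V := {c | IsPt L c ∧ ∀ s, spTv c s ∈ L} with hS
  have hinv : ∀ g ∈ L, ∀ s ∈ S, g • s ∈ S :=
    fun g hg s hs => ⟨hs.1.act hg, fun r => spTv_act hg (hs.2 r)⟩
  have haS : a ∈ S := ⟨hA, full_of_transvection hm hirr hA ht hta⟩
  have hall : ∀ w : V, f a w ≠ 0 → ∀ r, spTv w r ∈ L := by
    obtain ⟨b, hbS, hab⟩ := exists_opp hirr S (fun s hs => hs.1.1) ⟨a, haS⟩ hinv hA.1
    intro w hw r
    set σ := f a b with hσ
    set τ := f a w with hτ
    -- w is a multiple of a translate of b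
    set v := (σ / τ) • w + b + ((σ / τ) * f b w / σ) • a with hv
    have hva : f a v = 0 := by
      rw [hv]; simp only [sympForm_add_right, sympForm_smul_right, sympForm_self, ← hσ, ← hτ]
      field_simp
      linear_combination σ * τ * (CharTwo.two_eq_zero (R := F))
    have hvb : f b v = 0 := by
      rw [hv]; simp only [sympForm_add_right, sympForm_smul_right, sympForm_self, form_comm b a,
        ← hσ]
      field_simp
      linear_combination (f b w * σ) * (CharTwo.two_eq_zero (R := F))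
    obtain ⟨l, hl⟩ := hA.2 (σ⁻¹ • v) (by simp [hva])
    have hu := uni_add_tv (by simp [hva]) hl (haS.2 (l + (σ / τ) * f b w / σ / σ))
    have e : uni a (σ⁻¹ • v) (l + (l + (σ / τ) * f b w / σ / σ)) • b = (σ / τ) • w := by
      rw [uni_smul (by simp [hva]), form_comm b a, ← hσ, sympForm_smul_right, hvb, mul_zero,
        zero_smul, add_zero, smul_smul, mul_inv_cancel₀ hab, one_smul, ← add_assoc l l,
        CharTwo.add_self_eq_zero, zero_add, div_mul_cancel₀ _ hab, hv]
      ext i
      simp only [Pi.add_apply, Pi.smul_apply, smul_eq_mul]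
      linear_combination (b i + σ / τ * f b w / σ * a i) * (CharTwo.two_eq_zero (R := F))
    have h := spTv_act hu (hbS.2 (((σ / τ) ^ 2)⁻¹ * r))
    rwa [e, spTv_smul_vec, mul_inv_cancel_left₀ (pow_ne_zero _ (div_ne_zero hab hw))] at h
  refine eq_top_iff.2 ?_
  rw [← closure_spTvSet, Subgroup.closure_le]
  rintro g ⟨w, -, r, rfl⟩
  rcases eq_or_ne w 0 with rfl | hw0
  · rw [spTv_zero_vec]; exact L.one_mem
  by_cases hw : f a w = 0
  · obtain ⟨z, hz, hzw⟩ := exists_val_two hA.1 hw0
    have hz1 := hall z hz (f w z)⁻¹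
    have hzz := hall (spTv z (f w z)⁻¹ • w) ?_ r
    · have := spTv_act (L.inv_mem hz1) hzz
      rwa [inv_smul_smul] at this
    · rw [spTv_smul, inv_mul_cancel₀ hzw, one_smul, sympForm_add_right, hw, zero_add]
      exact hz
  · exact hall w hw r

end Cfsg.Agent.SympX
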